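import Cfsg.Agent.Lib.ClassSize.Nilpotent
import Cfsg.Agent.Lib.PLocal.SylowAux
import Mathlib.GroupTheory.Index
import Mathlib.GroupTheory.GroupAction.ConjAct
import Mathlib.RingTheory.Coprime.Lemmas

/-!
# The two largest class sizes: basic lemmas

`Top G m n` says that `m > n > 1` are coprime and are the two largest class sizes of `G`.
An element of class size prime to `m` gives an abelian normal subgroup of order dividing `m`
whose translations preserve every class of size `m`.
-/

set_option autoImplicit false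
set_option linter.style.haveILetI false
set_option linter.unusedSectionVars false

namespace CfsgLib.TwoClassSizes

open CfsgLib.ClassSize CfsgLib.ClassSize.Nilp Subgroup

universe u

variable {G : Type u} [Group G]

/-- The centraliser of an element. -/
abbrev C (g : G) : Subgroup G := Subgroup.centralizer ({g} : Set G)

theorem mem_C {a g : G} : a ∈ C g ↔ a * g = g * a := mem_centralizer_singleton_iff

theorem mem_C_symm {a g : G} : a ∈ C g ↔ g ∈ C a := by rw [mem_C, mem_C]; exact eq_comm

theorem conj_eq_of_mem_C {a g : G} (h : a ∈ C g) : a * g * a⁻¹ = g := by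
  rw [mem_C.1 h, mul_inv_cancel_right]

theorem mem_C_of_conj_eq {a g : G} (h : a * g * a⁻¹ = g) : a ∈ C g :=
  mem_C.2 (mul_inv_eq_iff_eq_mul.1 h)

theorem center_le_C (g : G) : center G ≤ C g := fun z hz => mem_C.2 (mem_center_iff.1 hz g).symm

theorem mem_of_pow_mem {H : Subgroup G} {a : G} {i j : ℕ} (hij : i.Coprime j) (hi : a ^ i ∈ H)
    (hj : a ^ j ∈ H) : a ∈ H := by
  obtain ⟨α, β, h⟩ := Nat.isCoprime_iff_coprime.2 hij
  have e : a = (a ^ i) ^ α * (a ^ j) ^ β := by
    rw [← zpow_natCast a i, ← zpow_natCast a j, ← zpow_mul, ← zpow_mul, ← zpow_add, mul_comm (i : ℤ),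
      mul_comm (j : ℤ), h, zpow_one]
  rw [e]
  exact mul_mem (zpow_mem hi α) (zpow_mem hj β)

/-- Commuting elements of coprime order modulo the centre. -/
theorem C_mul {a b : G} (hab : Commute a b) {i j : ℕ} (hij : i.Coprime j) (ha : a ^ i ∈ center G)
    (hb : b ^ j ∈ center G) : C (a * b) = C a ⊓ C b := by
  refine le_antisymm (fun g hg => ?_) (fun g hg => ?_)
  · have h1 : Commute g (a * b) := mem_C.1 hg
    have h2 : Commute g (a ^ j) := by
      have h3 : Commute g ((a * b) ^ j) := h1.pow_right j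
      rw [hab.mul_pow] at h3
      have h4 : Commute g (b ^ j) := mem_center_iff.1 hb g
      have h5 := h3.mul_right h4.inv_right
      rwa [mul_inv_cancel_right] at h5
    have hga : a ∈ C g := mem_of_pow_mem hij (center_le_C g ha) (mem_C.2 h2.symm)
    refine ⟨mem_C_symm.2 hga, mem_C.2 ?_⟩
    have h6 : Commute g a := mem_C.1 (mem_C_symm.2 hga)
    have h7 := h6.inv_right.mul_right h1
    rwa [inv_mul_cancel_left] at h7
  · exact mem_C.2 (Commute.mul_right (mem_C.1 hg.1 : Commute g a) (mem_C.1 hg.2))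

variable [Finite G]

theorem index_inf_eq {A B : Subgroup G} (h : A.index.Coprime B.index) :
    (A ⊓ B).index = A.index * B.index :=
  le_antisymm Subgroup.index_inf_le
    (Nat.le_of_dvd (Nat.pos_of_ne_zero index_ne_zero_of_finite)
      (h.mul_dvd_of_dvd_of_dvd (index_dvd_of_le inf_le_left) (index_dvd_of_le inf_le_right)))

theorem exists_mul {A B : Subgroup G} (h : A.index.Coprime B.index) (g : G) :
    ∃ a ∈ A, ∃ b ∈ B, g = a * b := by
  have hrel : B.relIndex A = B.index := by
    have h1 := relIndex_mul_index (inf_le_right : B ⊓ A ≤ A)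
    rw [inf_relIndex_right, index_inf_eq h.symm] at h1
    exact Nat.eq_of_mul_eq_mul_right (Nat.pos_of_ne_zero index_ne_zero_of_finite) h1
  let f : A ⧸ B.subgroupOf A → G ⧸ B :=
    Quotient.map' (fun a => (a : G)) fun a b h => by
      rw [QuotientGroup.leftRel_apply] at h ⊢
      exact h
  have hfinj : Function.Injective f := by
    rintro ⟨a⟩ ⟨b⟩ h
    refine Quotient.sound (QuotientGroup.leftRel_apply.2 ?_)
    have h' := QuotientGroup.leftRel_apply.1 (Quotient.exact h)
    exact h'
  obtain ⟨⟨a⟩, ha⟩ := (hfinj.bijective_of_nat_card_le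
    (by rw [← Subgroup.index_eq_card, ← Subgroup.index_eq_card]; exact hrel.ge)).2 (QuotientGroup.mk g)
  exact ⟨a, a.2, _, QuotientGroup.eq.1 ha, (mul_inv_cancel_left _ _).symm⟩

/-- Conjugates of `u` are conjugates under the centraliser of `v`. -/
theorem exists_conj_by {u u' v : G} (h : (cs u).Coprime (cs v)) (hu : IsConj u u') :
    ∃ a ∈ C v, a * u * a⁻¹ = u' := by
  obtain ⟨w, rfl⟩ := isConj_iff.1 hu
  obtain ⟨a, ha, b, hb, rfl⟩ := exists_mul (A := C v) (B := C u) h.symm w
  refine ⟨a, ha, ?_⟩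
  calc a * u * a⁻¹ = a * (b * u * b⁻¹) * a⁻¹ := by rw [conj_eq_of_mem_C hb]
    _ = a * b * u * (a * b)⁻¹ := by group

theorem eq_of_le_of_index_eq {A B : Subgroup G} (hle : A ≤ B) (h : A.index = B.index) : A = B := by
  refine Subgroup.eq_of_le_of_card_ge hle (le_of_eq ?_)
  have h1 := A.card_mul_index
  have h2 := B.card_mul_index
  rw [h] at h1
  exact Nat.eq_of_mul_eq_mul_right (Nat.pos_of_ne_zero index_ne_zero_of_finite) (h2.trans h1.symm)

/-- If every part of `g` outside the primes in `S` is central, some power of `g` with exponent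
involving only primes of `S` is central. -/
theorem exists_pow_mem_center (g : G) (S : ℕ → Prop)
    (h : ∀ r : ℕ, r.Prime → ¬ S r → ∀ k, (g ^ k) ^ r ^ ((orderOf g).factorization r) = 1 → g ^ k ∈ center G) :
    ∃ k, k ≠ 0 ∧ g ^ k ∈ center G ∧ k ∣ orderOf g ∧ ∀ r : ℕ, r.Prime → r ∣ k → S r := by
  set d := orderOf (QuotientGroup.mk' (center G) g)
  have hdn : d ∣ orderOf g := orderOf_map_dvd _ g
  refine ⟨d, (orderOf_pos _).ne', ?_, hdn, fun r hr hrd => ?_⟩
  · rw [← QuotientGroup.eq_one_iff, ← QuotientGroup.mk'_apply, map_pow]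
    exact pow_orderOf_eq_one _
  · by_contra hS
    set w := (orderOf g).factorization r
    have hz := h r hr hS (orderOf g / r ^ w) (by
      rw [← pow_mul, Nat.div_mul_cancel (Nat.ordProj_dvd _ r), pow_orderOf_eq_one])
    have h3 : d ∣ orderOf g / r ^ w := orderOf_dvd_of_pow_eq_one (by
      rw [← map_pow]; exact (QuotientGroup.eq_one_iff _).2 hz)
    exact Nat.not_dvd_ordCompl hr (orderOf_pos g).ne' (hrd.trans h3)

/-- If all prime-power parts are central so is the element. -/
theorem mem_center_of_parts (g : G)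
    (h : ∀ r : ℕ, r.Prime → ∀ k, (∃ j, (g ^ k) ^ r ^ j = 1) → g ^ k ∈ center G) : g ∈ center G := by
  obtain ⟨k, hk0, hk, -, hS⟩ := exists_pow_mem_center g (fun _ => False) fun r hr _ k hk => h r hr k ⟨_, hk⟩
  have : k = 1 := by
    by_contra h1
    obtain ⟨r, hr, hrk⟩ := Nat.exists_prime_and_dvd h1
    exact hS r hr hrk
  rwa [this, pow_one] at hk

/-- `m > n > 1` are coprime and are the two largest class sizes. -/
structure Top (G : Type u) [Group G] (m n : ℕ) : Prop where
  lt : n < m
  one_lt : 1 < n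
  cop : m.Coprime n
  le_top : ∀ z : G, cs z ≤ m
  second : ∀ z : G, cs z < m → cs z ≤ n

variable {m n : ℕ}

theorem Top.not_dvd (T : Top G m n) : ¬ n ∣ m := fun h => by
  have := Nat.eq_one_of_dvd_coprimes T.cop h dvd_rfl
  have := T.one_lt
  omega

theorem Top.eq_of_gt (T : Top G m n) {z : G} (h : n < cs z) : cs z = m :=
  le_antisymm (T.le_top z) (not_lt.1 fun h' => absurd (T.second z h') (not_le.2 h))

theorem Top.eq_of_dvd_n (T : Top G m n) {z : G} (h : n ∣ cs z) : cs z = n := by
  refine le_antisymm (not_lt.1 fun hlt => ?_) (Nat.le_of_dvd (Nat.pos_of_ne_zero (cs_ne_zero z)) h)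
  rw [T.eq_of_gt hlt] at h
  exact T.not_dvd h

theorem Top.eq_of_dvd_m (T : Top G m n) {z : G} (h : m ∣ cs z) : cs z = m :=
  le_antisymm (T.le_top z) (Nat.le_of_dvd (Nat.pos_of_ne_zero (cs_ne_zero z)) h)

/-- The translation property of a normal subgroup. -/
structure Stab (G : Type u) [Group G] (m : ℕ) (N : Subgroup G) : Prop where
  normal : N.Normal
  card_dvd : Nat.card N ∣ m
  comm : ∀ a ∈ N, ∀ b ∈ N, a * b = b * a
  fix : ∀ u : G, (cs u).Coprime m → ∀ t ∈ N, u * t = t * u
  stable : ∀ y : G, cs y = m → ∀ t ∈ N, IsConj y (t * y)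

theorem exists_stab (T : Top G m n) {y₀ : G} (hy₀ : cs y₀ = m) {g : G} (hg : (cs g).Coprime m) :
    ∃ N : Subgroup G, Stab G m N ∧ ∀ a : G, g⁻¹ * (a * g * a⁻¹) ∈ N := by
  classical
  set gens : Set G := Set.range fun a : G => g⁻¹ * (a * g * a⁻¹)
  set N := Subgroup.normalClosure gens
  have hgenN : ∀ a : G, g⁻¹ * (a * g * a⁻¹) ∈ N := fun a => subset_normalClosure ⟨a, rfl⟩
  have hstable : ∀ y : G, cs y = m → ∀ t ∈ N, ∀ y', IsConj y y' → IsConj y (t * y') := by
    intro y hy
    let S : Subgroup G :=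
      { carrier := {t | ∀ y', IsConj y y' → IsConj y (t * y')}
        one_mem' := fun y' h => by rwa [one_mul]
        mul_mem' := fun {a b} ha hb y' h => by rw [mul_assoc]; exact ha _ (hb _ h)
        inv_mem' := fun {a} ha y' h => by
          let f : {z // IsConj y z} → {z // IsConj y z} := fun z => ⟨a * z, ha _ z.2⟩
          have hf : Function.Injective f := fun z1 z2 h => Subtype.ext (mul_left_cancel (congrArg Subtype.val h))
          obtain ⟨z, hz⟩ := (Finite.injective_iff_surjective.1 hf) ⟨y', h⟩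
          have hz' : a * (z : G) = y' := congrArg Subtype.val hz
          rw [← hz', inv_mul_cancel_left]
          exact z.2 }
    haveI : S.Normal := ⟨fun t ht w => fun y' h => by
      have h1 := ht (w⁻¹ * y' * w) (h.trans (isConj_iff.2 ⟨w⁻¹, by group⟩))
      exact h1.trans (isConj_iff.2 ⟨w, by group⟩)⟩
    suffices N ≤ S from fun t ht => this ht
    refine normalClosure_le_normal ?_
    rintro _ ⟨a, rfl⟩
    intro y' hy'
    have hcsy' : cs y' = m := by
      obtain ⟨w, rfl⟩ := isConj_iff.1 hy'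
      rw [cs_conj, hy]
    have hmap : ∀ u, IsConj g u → ∀ z, IsConj y z → IsConj (g * y) (u * z) := by
      intro u hu z hz
      obtain ⟨b, hb, hbz⟩ := exists_conj_by (v := g) (by rw [hy]; exact hg.symm) hz
      have h1 : IsConj (g * y) (g * z) := isConj_iff.2 ⟨b, by
        rw [← hbz, show b * (g * y) * b⁻¹ = (b * g * b⁻¹) * (b * y * b⁻¹) by group, conj_eq_of_mem_C hb]⟩
      obtain ⟨c, hc, hcu⟩ := exists_conj_by (v := z) (by
        have : cs z = m := by
          obtain ⟨w, rfl⟩ := isConj_iff.1 hz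
          rw [cs_conj, hy]
        rw [this]; exact hg) hu
      exact h1.trans (isConj_iff.2 ⟨c, by
        rw [← hcu, show c * (g * z) * c⁻¹ = (c * g * c⁻¹) * (c * z * c⁻¹) by group, conj_eq_of_mem_C hc]⟩)
    let f : {z // IsConj y z} → {z // IsConj (g * y) z} := fun z => ⟨g * z, hmap g (IsConj.refl g) z z.2⟩
    have hf : Function.Injective f := fun z1 z2 h => Subtype.ext (mul_left_cancel (congrArg Subtype.val h))
    have hcard : Nat.card {z // IsConj (g * y) z} ≤ Nat.card {z // IsConj y z} := by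
      have e1 : Nat.card {z // IsConj y z} = cs y := by
        rw [show cs y = _ from (ncard_setOf_isConj y).symm, ← Nat.card_coe_set_eq]; rfl
      have e2 : Nat.card {z // IsConj (g * y) z} = cs (g * y) := by
        rw [show cs (g * y) = _ from (ncard_setOf_isConj (g * y)).symm, ← Nat.card_coe_set_eq]; rfl
      rw [e1, e2, hy]
      exact T.le_top _
    obtain ⟨z, hz⟩ := (hf.bijective_of_nat_card_le hcard).2 ⟨a * g * a⁻¹ * y', hmap _ (isConj_iff.2 ⟨a, rfl⟩) y' hy'⟩
    have hz' : g * (z : G) = a * g * a⁻¹ * y' := congrArg Subtype.val hz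
    show IsConj y (g⁻¹ * (a * g * a⁻¹) * y')
    rw [mul_assoc, ← hz', inv_mul_cancel_left]
    exact z.2
  have hcard : Nat.card N ∣ m := by
    set Y : Set G := {z | IsConj y₀ z}
    have hpre : (QuotientGroup.mk ⁻¹' (QuotientGroup.mk '' Y : Set (G ⧸ N)) : Set G) = Y := by
      refine Set.Subset.antisymm ?_ (Set.subset_preimage_image _ _)
      rintro z ⟨z', hz', hzz⟩
      have h1 : z * z'⁻¹ ∈ N := by
        have h := QuotientGroup.eq.1 hzz
        have h2 := (inferInstance : N.Normal).conj_mem _ h z'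
        rwa [← mul_assoc, mul_inv_cancel, one_mul] at h2
      have h3 := hstable y₀ hy₀ _ h1 z' hz'
      rwa [inv_mul_cancel_right] at h3
    have h := Nat.card_congr (QuotientGroup.preimageMkEquivSubgroupProdSet N (QuotientGroup.mk '' Y : Set (G ⧸ N)))
    rw [hpre, Nat.card_prod, Nat.card_coe_set_eq, ncard_setOf_isConj] at h
    exact ⟨_, hy₀.symm.trans h⟩
  have hfix : ∀ u : G, (cs u).Coprime m → ∀ t ∈ N, u * t = t * u := by
    intro u hu t ht
    have h1 : (C u).relIndex N = 1 := by
      refine Nat.eq_one_of_dvd_coprimes (hu.coprime_dvd_right hcard) ?_ (relIndex_dvd_card _ _)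
      rw [CfsgLib.PLocal.relIndex_eq_relIndex_sup_of_normal]
      exact relIndex_dvd_index_of_le le_sup_right
    exact (mem_C.1 (relIndex_eq_one.1 h1 ht)).symm
  refine ⟨N, ⟨inferInstance, hcard, fun a ha b hb => ?_, hfix, fun y hy t ht => hstable y hy t ht y (IsConj.refl y)⟩, hgenN⟩
  have hle : N ≤ Subgroup.centralizer (N : Set G) := by
    refine normalClosure_le_normal ?_
    rintro _ ⟨w, rfl⟩
    rw [SetLike.mem_coe, mem_centralizer_iff]
    intro t ht
    have h1 : Commute g t := hfix g hg t ht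
    have h2 : Commute (w * g * w⁻¹) t := hfix _ (by rw [cs_conj]; exact hg) t ht
    exact ((h1.inv_left).mul_left h2).symm.eq
  exact (mem_centralizer_iff.1 (hle hb) a ha)

/-- An element of class size `e` prime to `m` has its `e`-th power in `N · Z(G)`, with the same centraliser. -/
theorem pow_cs_mul_mem_center {N : Subgroup G} (hN : Stab G m N) {g : G} (hg : (cs g).Coprime m)
    (hgN : ∀ a : G, g⁻¹ * (a * g * a⁻¹) ∈ N) :
    (∃ t ∈ N, g ^ cs g * t ∈ center G) ∧ C (g ^ cs g) = C g := by
  classical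
  cases nonempty_fintype G
  haveI := hN.normal
  letI : CommGroup N := { (inferInstance : Group N) with mul_comm := fun a b => Subtype.ext (hN.comm a a.2 b b.2) }
  set cl := {u : G // IsConj g u}
  have hcl : Fintype.card cl = cs g := by
    rw [← Nat.card_eq_fintype_card, show cs g = _ from (ncard_setOf_isConj g).symm, ← Nat.card_coe_set_eq]; rfl
  let φ : cl → N := fun u => ⟨g⁻¹ * u, by obtain ⟨a, ha⟩ := isConj_iff.1 u.2; rw [← ha]; exact hgN a⟩
  let P : N := ∏ u, φ u
  have hcg : ∀ a : G, Commute g (g⁻¹ * (a * g * a⁻¹)) := fun a => hN.fix g hg _ (hgN a)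
  have hkey : ∀ a : G, (g⁻¹ * (a * g * a⁻¹)) ^ cs g * (a * (P : G) * a⁻¹) = (P : G) := by
    intro a
    let c : N := ⟨g⁻¹ * (a * g * a⁻¹), hgN a⟩
    let e : cl ≃ cl :=
      { toFun := fun u => ⟨a * u * a⁻¹, u.2.trans (isConj_iff.2 ⟨a, rfl⟩)⟩
        invFun := fun u => ⟨a⁻¹ * u * a, u.2.trans (isConj_iff.2 ⟨a⁻¹, by group⟩)⟩
        left_inv := fun u => Subtype.ext (by group)
        right_inv := fun u => Subtype.ext (by group) }
    have h1 : ∀ u, φ (e u) = c * MulAut.conjNormal a (φ u) := fun u => Subtype.ext (by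
      simp only [φ, e, c, Equiv.coe_fn_mk, Subgroup.coe_mul, MulAut.conjNormal_apply]
      group)
    have h2 : P = c ^ cs g * MulAut.conjNormal a P := by
      calc P = ∏ u, φ (e u) := (Equiv.prod_comp e φ).symm
        _ = ∏ u, c * MulAut.conjNormal a (φ u) := Finset.prod_congr rfl fun u _ => h1 u
        _ = c ^ cs g * MulAut.conjNormal a P := by
          rw [Finset.prod_mul_distrib, Finset.prod_const, Finset.card_univ, hcl, map_prod]
    have h3 := congrArg Subtype.val h2
    simp only [Subgroup.coe_mul, SubgroupClass.coe_pow, MulAut.conjNormal_apply, c] at h3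
    exact h3.symm
  refine ⟨⟨P, P.2, mem_center_iff.2 fun a => ?_⟩, le_antisymm (fun a ha => ?_) fun a ha => ?_⟩
  · have h1 : a * (g ^ cs g * (P : G)) * a⁻¹ = g ^ cs g * (P : G) := by
      conv_rhs => rw [← hkey a]
      rw [show a * (g ^ cs g * (P : G)) * a⁻¹ = (a * g * a⁻¹) ^ cs g * (a * (P : G) * a⁻¹) by rw [conj_pow]; group,
        ← mul_assoc (g ^ cs g), ← (hcg a).mul_pow, mul_inv_cancel_left]
    exact mul_inv_eq_iff_eq_mul.1 h1
  · set c := g⁻¹ * (a * g * a⁻¹)
    have h1 : c ^ cs g = 1 := by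
      have h2 : a * g ^ cs g * a⁻¹ = g ^ cs g := conj_eq_of_mem_C ha
      rw [← conj_pow, show a * g * a⁻¹ = g * c by rw [mul_inv_cancel_left], (hcg a).mul_pow] at h2
      exact mul_left_cancel (a := g ^ cs g) (h2.trans (mul_one _).symm)
    have hc : c = 1 := by
      have h3 : orderOf c ∣ cs g := orderOf_dvd_of_pow_eq_one h1
      have h4 : orderOf c ∣ m := (Subgroup.orderOf_dvd_natCard N (hgN a)).trans hN.card_dvd
      exact orderOf_eq_one_iff.1 (Nat.eq_one_of_dvd_coprimes hg h3 h4)
    exact mem_C_of_conj_eq (inv_mul_eq_one.1 hc).symm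
  · exact mem_C.2 (Commute.pow_right (mem_C.1 ha : Commute a g) _)

/-- An element of class size prime to `m`, with a power of exponent prime to `m` central, is central. -/
theorem mem_center_of_pow (T : Top G m n) {y₀ : G} (hy₀ : cs y₀ = m) {g : G} (hg : (cs g).Coprime m) {k : ℕ}
    (hk : k.Coprime m) (hgk : g ^ k ∈ center G) : g ∈ center G := by
  obtain ⟨N, hN, hgN⟩ := exists_stab T hy₀ hg
  obtain ⟨⟨t, ht, hz⟩, hC⟩ := pow_cs_mul_mem_center hN hg hgN
  have htk : t ^ k ∈ center G := by
    have hc : Commute (g ^ cs g) t := Commute.pow_left (hN.fix g hg t ht) _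
    have h1 : (g ^ cs g * t) ^ k ∈ center G := pow_mem hz k
    rw [hc.mul_pow, ← pow_mul, mul_comm, pow_mul] at h1
    exact ((center G).mul_mem_cancel_left (pow_mem hgk _)).1 h1
  have htm : t ^ m ∈ center G := by
    rw [orderOf_dvd_iff_pow_eq_one.1 ((Subgroup.orderOf_dvd_natCard N ht).trans hN.card_dvd)]
    exact one_mem _
  have htZ : t ∈ center G := mem_of_pow_mem hk htk htm
  have hge : g ^ cs g ∈ center G := ((center G).mul_mem_cancel_right htZ).1 hz
  refine mem_center_iff.2 fun a => ?_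
  have ha : a ∈ C g := hC ▸ mem_C.2 (mem_center_iff.1 hge a)
  exact mem_C.1 ha

/-! ### Regular vectors -/

/-- An abelian group acting coprimely on an abelian group has a vector fixed only by the kernel. -/
theorem exists_regular {V A : Type*} [CommGroup V] [Finite V] [CommGroup A] [Finite A] (φ : A →* MulAut V)
    (hcop : (Nat.card A).Coprime (Nat.card V)) : ∃ v : V, ∀ a, φ a v = v → ∀ w, φ a w = w := by
  classical
  suffices H : ∀ B : Subgroup A, ∃ v : V, ∀ a ∈ B, φ a v = v → ∀ w, φ a w = w by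
    obtain ⟨v, hv⟩ := H ⊤
    exact ⟨v, fun a => hv a (mem_top a)⟩
  intro B
  induction B using WellFoundedLT.induction with
  | ind B ih =>
  by_cases hB : ∀ a ∈ B, ∀ w, φ a w = w
  · exact ⟨1, fun a ha _ => hB a ha⟩
  push Not at hB
  obtain ⟨a1, ha1, w, hw⟩ := hB
  let A0 : Subgroup A :=
    { carrier := {a | a ∈ B ∧ φ a w = w}
      one_mem' := ⟨one_mem B, by simp⟩
      mul_mem' := fun {a b} ha hb => ⟨mul_mem ha.1 hb.1, by rw [map_mul, MulAut.mul_apply, hb.2, ha.2]⟩
      inv_mem' := fun {a} ha => ⟨inv_mem ha.1, by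
        rw [map_inv, MulAut.inv_apply, MulEquiv.symm_apply_eq]; exact ha.2.symm⟩ }
  have hlt : A0 < B := lt_of_le_of_ne (fun a ha => ha.1) fun h => hw (h.symm ▸ ha1 : a1 ∈ A0).2
  obtain ⟨u, hu⟩ := ih A0 hlt
  cases nonempty_fintype A0
  set k := Nat.card A0
  have hk : (Nat.card V).Coprime k := (hcop.coprime_dvd_left (card_subgroup_dvd_card A0)).symm
  let P : V → V := fun v => ∏ a : A0, φ (a : A) v
  have hPmul : ∀ v v', P (v * v') = P v * P v' := fun v v' => by simp [P, Finset.prod_mul_distrib]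
  have hPinv : ∀ v, P v⁻¹ = (P v)⁻¹ := fun v => by simp [P]
  have hPcomm : ∀ (a : A) v, P (φ a v) = φ a (P v) := fun a v => by
    simp only [P, map_prod]
    refine Finset.prod_congr rfl fun b _ => ?_
    rw [← MulAut.mul_apply, ← MulAut.mul_apply, ← map_mul, ← map_mul, mul_comm]
  have hPfix : ∀ a ∈ A0, ∀ v, φ a (P v) = P v := fun a ha v => by
    simp only [P, map_prod, ← MulAut.mul_apply, ← map_mul]
    exact Equiv.prod_comp (Equiv.mulLeft (⟨a, ha⟩ : A0)) (fun b : A0 => φ (b : A) v)
  have hPpow : ∀ v, (∀ a ∈ A0, φ a v = v) → P v = v ^ k := fun v hv => by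
    show ∏ a : A0, φ (a : A) v = v ^ k
    rw [Finset.prod_congr rfl fun (a : A0) _ => hv a a.2, Finset.prod_const, Finset.card_univ,
      ← Nat.card_eq_fintype_card]
  have hPk : ∀ v (j : ℕ), P (v ^ j) = P v ^ j := fun v j => by simp [P, map_pow, Finset.prod_pow]
  refine ⟨w ^ k * (u ^ k * (P u)⁻¹), fun a ha hfix => ?_⟩
  have h1 : φ a (w ^ k) ^ k = (w ^ k) ^ k := by
    have h2 := congrArg P hfix
    rw [hPcomm] at h2
    have h3 : P (w ^ k * (u ^ k * (P u)⁻¹)) = (w ^ k) ^ k := by
      rw [hPmul, hPmul, hPinv, hPk u, hPpow (P u) (fun b hb => hPfix b hb u), mul_inv_cancel, mul_one,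
        hPpow (w ^ k) fun b hb => by rw [map_pow, hb.2]]
    rw [h3, map_pow] at h2
    exact h2
  have h2 : φ a (w ^ k) = w ^ k := (powCoprime hk).injective h1
  have h3 : φ a w = w := (powCoprime hk).injective (show φ a w ^ k = w ^ k by rw [← map_pow]; exact h2)
  have haA : a ∈ A0 := ⟨ha, h3⟩
  refine hu a haA ((powCoprime hk).injective ?_)
  rw [map_mul, h2] at hfix
  have h4 := mul_left_cancel hfix
  rw [map_mul, map_inv, hPfix a haA u] at h4
  have h5 := mul_right_cancel h4
  show φ a u ^ k = u ^ k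
  rw [← map_pow]
  exact h5

end CfsgLib.TwoClassSizes
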