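import Cfsg.Agent.Lib.TwoClassSizes.Mixed
import Cfsg.Agent.Lib.Frobenius.Basic

/-!
# The two largest class sizes are coprime: Frobenius structure modulo the centre
-/

set_option autoImplicit false
set_option linter.style.haveILetI false
set_option linter.unusedSectionVars false

namespace CfsgLib.TwoClassSizes

open CfsgLib.ClassSize CfsgLib.ClassSize.Nilp Subgroup

universe u

variable {G : Type u} [Group G] [Finite G] {m n : ℕ}

theorem pow_relIndex_mem (Z H : Subgroup G) [Z.Normal] {g : G} (hg : g ∈ H) : g ^ Z.relIndex H ∈ Z := by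
  have h := pow_card_eq_one' (x := QuotientGroup.mk' (Z.subgroupOf H) ⟨g, hg⟩)
  rw [← map_pow, ← Subgroup.index_eq_card] at h
  have h2 := (QuotientGroup.eq_one_iff _).1 h
  rw [mem_subgroupOf] at h2
  simpa [Subgroup.relIndex] using h2

theorem Top.coprime_of_primes (T : Top G m n) {k : ℕ} (h : ∀ r : ℕ, r.Prime → r ∣ k → r ∣ n) : k.Coprime m :=
  Nat.coprime_of_dvd fun r hr hrk hrm => hr.ne_one (Nat.eq_one_of_dvd_coprimes T.cop hrm (h r hr hrk))

variable {N : Subgroup G} {x : G} (D : Data G m n N x)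
include D

theorem Data.not_center : x ∉ center G := by
  intro h
  rw [← cs_eq_one_iff, D.csx] at h
  exact absurd h D.top.one_lt.ne'

theorem Data.not_center_m {y : G} (hy : cs y = m) : y ∉ center G := by
  intro h
  rw [← cs_eq_one_iff, hy] at h
  have := D.top.lt
  have := D.top.one_lt
  omega

theorem Data.part_center {y : G} (hy : cs y = m) {w : G} (hle : C y ≤ C w) {r : ℕ} (hr : r.Prime) (hrn : ¬ r ∣ n)
    {j : ℕ} (hj : w ^ r ^ j = 1) : w ∈ center G := by
  have hwx := D.part_mem_C hy hle hr hrn hj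
  refine (D.dichotomy hy hle hwx).resolve_right fun h => ?_
  exact D.not_commute hr hrn (by rw [hj]; exact one_mem _) h.2 hwx

theorem Data.exists_pow_m {y : G} (hy : cs y = m) : ∃ k : ℕ, k.Coprime m ∧ y ^ k ∈ center G := by
  obtain ⟨k, -, hk, -, hS⟩ := exists_pow_mem_center y (fun r => r ∣ n) fun r hr hrn k hk =>
    D.part_center hy (fun g hg => mem_C.2 (Commute.pow_right (mem_C.1 hg : Commute g y) k)) hr hrn hk
  exact ⟨k, D.top.coprime_of_primes hS, hk⟩

theorem Data.inf_le_center {y : G} (hy : cs y = m) {a : G} (hax : a ∈ C x) (hay : a ∈ C y) : a ∈ center G := by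
  refine mem_center_of_parts a fun r hr k ⟨j, hj⟩ => ?_
  by_cases hrn : r ∣ n
  · exact D.prime_part_mem_center hr hrn (pow_mem hax k) hj
  obtain ⟨k0, -, hk0, -, hS⟩ := exists_pow_mem_center y (fun r => r ∣ n) fun r hr hrn k hk =>
    D.part_center hy (fun g hg => mem_C.2 (Commute.pow_right (mem_C.1 hg : Commute g y) k)) hr hrn hk
  have hcop : k0.Coprime (r ^ j) := Nat.coprime_of_dvd fun s hs hsk hsr =>
    hrn ((Nat.prime_dvd_prime_iff_eq hs hr).1 (hs.dvd_of_dvd_pow hsr) ▸ hS s hs hsk)
  have hay' : a ^ k ∈ C y := pow_mem hay k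
  have hmul : C (y * a ^ k) = C y ⊓ C (a ^ k) :=
    C_mul (mem_C.1 hay').symm hcop hk0 (by rw [hj]; exact one_mem _)
  have h1 : cs (y * a ^ k) = m := D.top.eq_of_dvd_m (by
    have h := index_dvd_of_le (inf_le_left : C y ⊓ C (a ^ k) ≤ C y)
    rw [← hmul, show (C y).index = m from hy] at h
    exact h)
  have hle : C y ⊓ C (a ^ k) = C y := eq_of_le_of_index_eq inf_le_left (by rw [← hmul]; exact h1.trans hy.symm)
  exact D.part_center hy (hle ▸ inf_le_right) hr hrn hj

theorem Data.center_index : (center G).index = m * n := by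
  obtain ⟨y, hy⟩ := D.exists_m
  have h : C y ⊓ C x = center G :=
    le_antisymm (fun a ha => D.inf_le_center hy ha.2 ha.1) (le_inf (center_le_C y) (center_le_C x))
  rw [← h, index_inf_eq (by rw [show (C y).index = m from hy, show (C x).index = n from D.csx]; exact D.top.cop),
    show (C y).index = m from hy, show (C x).index = n from D.csx]

theorem Data.pow_n {y : G} (hy : cs y = m) {g : G} (hg : g ∈ C y) : g ^ n ∈ center G := by
  have h := relIndex_mul_index (center_le_C y)
  rw [D.center_index, show (C y).index = m from hy, mul_comm m n] at h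
  have h2 := Nat.eq_of_mul_eq_mul_right (lt_trans (lt_trans Nat.zero_lt_one D.top.one_lt) D.top.lt) h
  exact h2 ▸ pow_relIndex_mem (center G) (C y) hg

theorem Data.pow_m_mem {g : G} (hg : g ∈ C x) : g ^ m ∈ center G := by
  have h := relIndex_mul_index (center_le_C x)
  rw [D.center_index, show (C x).index = n from D.csx] at h
  have h2 := Nat.eq_of_mul_eq_mul_right (lt_trans Nat.zero_lt_one D.top.one_lt) h
  exact h2 ▸ pow_relIndex_mem (center G) (C x) hg

theorem Data.eq_one_of_mem_center {t : G} (ht : t ∈ N) (htZ : t ∈ center G) : t = 1 := by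
  obtain ⟨y, hy⟩ := D.exists_m
  obtain ⟨a, ha⟩ := isConj_iff.1 (D.stab.stable y hy t ht)
  have hyn : y ^ n ∈ center G := D.pow_n hy (mem_C.2 rfl)
  have h1 : (a * y * a⁻¹) ^ n = (t * y) ^ n := by rw [ha]
  rw [conj_pow, Commute.mul_pow (mem_center_iff.1 htZ y).symm, mem_center_iff.1 hyn a, mul_inv_cancel_right] at h1
  have h2 : t ^ n = 1 := by
    have h3 : t ^ n * y ^ n = 1 * y ^ n := by rw [one_mul]; exact h1.symm
    exact mul_right_cancel h3
  exact mem_bot.1 (mem_of_pow_mem D.top.cop.symm (mem_bot.2 h2)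
    (mem_bot.2 (orderOf_dvd_iff_pow_eq_one.1 ((Subgroup.orderOf_dvd_natCard N ht).trans D.stab.card_dvd))))

/-- Every noncentral element of `C(y)` has class size `m`. -/
theorem Data.cs_eq_m {y : G} (hy : cs y = m) {h : G} (hh : h ∈ C y) (hh' : h ∉ center G) : cs h = m := by
  classical
  have T := D.top
  haveI := D.stab.normal
  set Z := center G
  set H := C y
  letI : CommGroup N := { (inferInstance : Group N) with mul_comm := fun a b => Subtype.ext (D.stab.comm a a.2 b b.2) }
  have hhn : h ^ n ∈ Z := D.pow_n hy hh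
  let σ : MulAut N := MulAut.conjNormal h
  let μ : N →* N := MonoidHom.mk' (fun a => σ a * a⁻¹) fun a b => by
    rw [map_mul, mul_inv, mul_mul_mul_comm]
  let xN : N := ⟨x, D.mem⟩
  let a : ℕ → N := fun j => ⟨h ^ j * x * (h ^ j)⁻¹, D.stab.normal.conj_mem x D.mem _⟩
  let t : N := ∏ j ∈ Finset.range n, a j
  have hσa : ∀ j, σ (a j) = a (j + 1) := fun j => Subtype.ext (by
    simp only [σ, a, MulAut.conjNormal_apply, pow_succ']
    group)
  have htel : ∀ j, a j * xN⁻¹ ∈ μ.range := by
    intro j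
    induction j with
    | zero => exact ⟨1, by simp [a, xN, μ]⟩
    | succ j ih =>
      have : a (j + 1) * xN⁻¹ = μ (a j) * (a j * xN⁻¹) := by
        show a (j + 1) * xN⁻¹ = σ (a j) * (a j)⁻¹ * (a j * xN⁻¹)
        rw [hσa, mul_assoc, inv_mul_cancel_left]
      rw [this]
      exact mul_mem ⟨a j, rfl⟩ ih
  have htv : t * (xN ^ n)⁻¹ ∈ μ.range := by
    have e : t * (xN ^ n)⁻¹ = ∏ j ∈ Finset.range n, a j * xN⁻¹ := by
      rw [Finset.prod_mul_distrib, Finset.prod_const, Finset.card_range, inv_pow]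
    rw [e]
    exact Subgroup.prod_mem _ fun j _ => htel j
  have hn0 : a n = a 0 := Subtype.ext (by
    show h ^ n * x * (h ^ n)⁻¹ = h ^ 0 * x * (h ^ 0)⁻¹
    rw [pow_zero, one_mul, inv_one, mul_one, ← mem_center_iff.1 hhn x, mul_inv_cancel_right])
  have hσt : σ t = t := by
    have h1 : σ t = ∏ j ∈ Finset.range n, a (j + 1) := by
      rw [map_prod]
      exact Finset.prod_congr rfl fun j _ => hσa j
    have h2 := Finset.prod_range_succ a n
    rw [Finset.prod_range_succ' a n, hn0] at h2
    rw [h1]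
    exact mul_right_cancel h2
  have hth : (t : G) ∈ C h := by
    have h1 : h * (t : G) * h⁻¹ = t := by simpa [σ] using congrArg Subtype.val hσt
    exact mem_C_symm.1 (mem_C_of_conj_eq h1)
  set v : N := t * (xN ^ n)⁻¹ with hv
  set S := H ⊓ C h ⊓ C (t : G) with hS
  have hSv : ∀ c ∈ S, c * (v : G) * c⁻¹ = v → c ∈ Z := by
    rintro c ⟨⟨hcH, -⟩, hct⟩ hcv
    have h1 : c ∈ C (x ^ n) := by
      have h2 : Commute c (v : G) := mem_C.1 (mem_C_of_conj_eq hcv)
      have h3 : Commute c (t : G) := mem_C.1 hct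
      have h4 := h2.inv_right.mul_right h3
      simp only [hv, xN, Subgroup.coe_mul, Subgroup.coe_inv, SubgroupClass.coe_pow, mul_inv_rev, inv_inv,
        inv_mul_cancel_right] at h4
      exact mem_C.2 h4.eq
    have h2 : x ∈ C c := mem_of_pow_mem T.cop.symm (mem_C_symm.1 h1) (by rw [D.pow_m]; exact one_mem _)
    exact D.inf_le_center hy (mem_C_symm.1 h2) hcH
  have hv1 : v ≠ 1 := by
    intro hv1
    apply hh'
    refine hSv h ⟨⟨hh, mem_C.2 rfl⟩, mem_C_symm.1 hth⟩ ?_
    rw [hv1]; simp
  have hSM : Nat.card S < Nat.card μ.range * Nat.card Z := by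
    have hZS : Z ≤ S := le_inf (le_inf (center_le_C y) (center_le_C h)) (center_le_C _)
    have hmem : ∀ c ∈ S, (⟨c * (v : G) * c⁻¹, D.stab.normal.conj_mem _ v.2 c⟩ : N) ∈ μ.range := by
      intro c hc
      obtain ⟨b, hb⟩ := (show v ∈ μ.range from htv)
      refine ⟨⟨c * (b : G) * c⁻¹, D.stab.normal.conj_mem _ b.2 c⟩, Subtype.ext ?_⟩
      have hb' : h * (b : G) * h⁻¹ * (b : G)⁻¹ = v := by simpa [μ, σ] using congrArg Subtype.val hb
      have hch : Commute c h := mem_C.1 hc.1.2
      show (σ _ : G) * (c * (b : G) * c⁻¹)⁻¹ = c * (v : G) * c⁻¹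
      rw [show ((σ ⟨c * (b : G) * c⁻¹, D.stab.normal.conj_mem _ b.2 c⟩ : N) : G) = h * (c * (b : G) * c⁻¹) * h⁻¹ from
        MulAut.conjNormal_apply _ _, ← hb']
      calc h * (c * (b : G) * c⁻¹) * h⁻¹ * (c * (b : G) * c⁻¹)⁻¹
          = (h * c) * (b : G) * (h * c)⁻¹ * c * (b : G)⁻¹ * c⁻¹ := by group
        _ = (c * h) * (b : G) * (c * h)⁻¹ * c * (b : G)⁻¹ * c⁻¹ := by rw [hch.eq]
        _ = c * (h * (b : G) * h⁻¹ * (b : G)⁻¹) * c⁻¹ := by group
    let f : S ⧸ Z.subgroupOf S → {w : μ.range // w ≠ 1} := Quotient.lift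
      (fun c : S => ⟨⟨_, hmem c c.2⟩, fun he => hv1 (Subtype.ext (by
        have h1 : (c : G) * (v : G) * (c : G)⁻¹ = 1 := congrArg (fun w : μ.range => ((w : N) : G)) he
        exact conj_eq_one_iff.1 h1))⟩)
      (fun c c' hcc => by
        have h1 : ((c : G))⁻¹ * c' ∈ Z := by
          have := QuotientGroup.leftRel_apply.1 hcc
          rw [mem_subgroupOf] at this
          simpa using this
        refine Subtype.ext (Subtype.ext (Subtype.ext ?_))
        show (c : G) * v * (c : G)⁻¹ = (c' : G) * v * (c' : G)⁻¹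
        have h2 : ((c : G))⁻¹ * c' * v * (((c : G))⁻¹ * c')⁻¹ = v := by
          rw [← mem_center_iff.1 h1 (v : G), mul_inv_cancel_right]
        conv_lhs => rw [← h2]
        group)
    have hfinj : Function.Injective f := by
      rintro ⟨c⟩ ⟨c'⟩ he
      refine Quotient.sound (QuotientGroup.leftRel_apply.2 ?_)
      rw [mem_subgroupOf]
      have h1 : (c : G) * v * (c : G)⁻¹ = (c' : G) * v * (c' : G)⁻¹ :=
        congrArg (fun w : {w : μ.range // w ≠ 1} => (((w : μ.range) : N) : G)) he
      refine hSv _ (mul_mem (inv_mem c.2) c'.2) ?_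
      calc ((c : G)⁻¹ * c') * v * ((c : G)⁻¹ * c')⁻¹ = (c : G)⁻¹ * ((c' : G) * v * (c' : G)⁻¹) * c := by group
        _ = v := by rw [← h1]; group
    have hcard := Nat.card_le_card_of_injective f hfinj
    have hlt : Nat.card {w : μ.range // w ≠ 1} < Nat.card μ.range :=
      Finite.card_subtype_lt (x := (1 : μ.range)) (by simp)
    have e : Nat.card (S ⧸ Z.subgroupOf S) * Nat.card Z = Nat.card S := by
      rw [← Nat.card_congr (subgroupOfEquivOfLe hZS).toEquiv, ← Subgroup.card_eq_card_quotient_mul_card_subgroup]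
    rw [← e]
    exact Nat.mul_lt_mul_of_pos_right (lt_of_le_of_lt hcard hlt) Nat.card_pos
  have hNH : N ⊓ H = ⊥ := by
    rw [eq_bot_iff]
    intro w hw
    rw [mem_bot]
    refine D.eq_one_of_mem_center hw.1 (D.inf_le_center hy ?_ hw.2)
    exact mem_C.2 ((D.stab.fix x (by rw [D.csx]; exact T.cop.symm) w hw.1).symm)
  have hcsht : cs (h * (t : G)) = m := by
    set NH := N ⊔ H with hNHdef
    have hcardNH : Nat.card NH = Nat.card N * Nat.card H := by
      have h1 := relIndex_mul_relIndex ⊥ H NH bot_le le_sup_right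
      rw [relIndex_bot_left, relIndex_bot_left] at h1
      have h2 := relIndex_mul_relIndex ⊥ N NH bot_le le_sup_left
      rw [relIndex_bot_left, relIndex_bot_left, hNHdef, sup_comm, relIndex_sup_right] at h2
      have h3 : N.relIndex H = Nat.card H := by
        rw [← inf_relIndex_right, hNH, relIndex_bot_left]
      rw [h3] at h2
      rw [hNHdef, sup_comm]
      exact h2.symm
    have hC : ((C (h * (t : G)) ⊓ NH : Subgroup G) : Set G) ⊆
        (fun pr : G × G => pr.1 * pr.2) '' (((C h ⊓ N : Subgroup G) : Set G) ×ˢ (S : Set G)) := by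
      rintro g ⟨hg, hgNH⟩
      obtain ⟨b, hb, k, hk, rfl⟩ := mem_sup_of_normal_left.1 hgNH
      have hg' : b * k * (h * (t : G)) = h * (t : G) * (b * k) := mem_C.1 hg
      have hkh : Commute k h := by
        show k * h = h * k
        have hm' : (k * h)⁻¹ * (h * k) ∈ N ⊓ H := by
          refine ⟨?_, H.mul_mem (H.inv_mem (H.mul_mem hk hh)) (H.mul_mem hh hk)⟩
          show (k * h)⁻¹ * (h * k) ∈ N
          rw [← QuotientGroup.eq_one_iff, ← QuotientGroup.mk'_apply, map_mul, map_inv, inv_mul_eq_one]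
          have h4 := congrArg (QuotientGroup.mk' N) hg'
          simp only [map_mul] at h4
          rw [show QuotientGroup.mk' N b = 1 from (QuotientGroup.eq_one_iff b).2 hb,
            show QuotientGroup.mk' N (t : G) = 1 from (QuotientGroup.eq_one_iff _).2 t.2, one_mul, mul_one] at h4
          rw [map_mul, map_mul]
          exact h4
        rw [hNH, mem_bot, inv_mul_eq_one] at hm'
        exact hm'
      have hbt : Commute b (t : G) := D.stab.comm b hb t t.2
      have hxt : Commute h (t : G) := (mem_C.1 hth : Commute (t : G) h).symm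
      have hkt' : k * (t : G) * k⁻¹ ∈ N := D.stab.normal.conj_mem _ t.2 k
      have hbkt : Commute b (k * (t : G) * k⁻¹) := D.stab.comm b hb _ hkt'
      -- split the equation along `N` and `H`
      have e1 : b * h * (k * (t : G) * k⁻¹) = h * (t : G) * b := by
        have h5 : b * (k * h) * (t : G) = h * (t : G) * b * k := by
          rw [← mul_assoc b k h, mul_assoc (b * k) h, hg']; group
        rw [hkh.eq] at h5
        calc b * h * (k * (t : G) * k⁻¹) = b * (h * k) * (t : G) * k⁻¹ := by group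
          _ = h * (t : G) * b * k * k⁻¹ := by rw [h5]
          _ = h * (t : G) * b := by group
      have e2 : (h⁻¹ * b * h) * (k * (t : G) * k⁻¹) = b * (t : G) := by
        rw [hbt.eq]
        calc (h⁻¹ * b * h) * (k * (t : G) * k⁻¹) = h⁻¹ * (b * h * (k * (t : G) * k⁻¹)) := by group
          _ = h⁻¹ * (h * (t : G) * b) := by rw [e1]
          _ = (t : G) * b := by group
      -- apply `∏ over conjugation by h`: raise to get `k t k⁻¹ = t`
      have hfix : Commute h (k * (t : G) * k⁻¹) := by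
        have h6 : k * (h * (t : G)) * k⁻¹ = k * ((t : G) * h) * k⁻¹ := by rw [hxt.eq]
        calc h * (k * (t : G) * k⁻¹) = (h * k) * (t : G) * k⁻¹ := by group
          _ = (k * h) * (t : G) * k⁻¹ := by rw [hkh.eq]
          _ = k * (h * (t : G)) * k⁻¹ := by group
          _ = k * ((t : G) * h) * k⁻¹ := h6
          _ = k * (t : G) * (h * k⁻¹) := by group
          _ = k * (t : G) * (k⁻¹ * h) := by rw [hkh.symm.inv_right.eq]
          _ = k * (t : G) * k⁻¹ * h := by group
      -- `μ b⁻¹` is fixed by `h`, hence trivial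
      set q : G := b⁻¹ * (h⁻¹ * b * h) with hq
      have hqN : q ∈ N := mul_mem (inv_mem hb) (D.stab.normal.conj_mem' b hb h)
      have hqh : Commute h q := by
        have e3 : q = (t : G) * (k * (t : G) * k⁻¹)⁻¹ := by
          have h7 : h⁻¹ * b * h = b * (t : G) * (k * (t : G) * k⁻¹)⁻¹ := by rw [← e2, mul_inv_cancel_right]
          rw [hq, h7, mul_assoc b, inv_mul_cancel_left]
        rw [e3]
        exact hxt.mul_right hfix.inv_right
      have hq1 : q = 1 := by
        have hiter : ∀ j : ℕ, (h ^ j)⁻¹ * b * h ^ j = b * q ^ j := by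
          intro j
          induction j with
          | zero => simp
          | succ j ih =>
            have e4 : h⁻¹ * b * h = b * q := by rw [hq, mul_inv_cancel_left]
            calc (h ^ (j + 1))⁻¹ * b * h ^ (j + 1) = h⁻¹ * ((h ^ j)⁻¹ * b * h ^ j) * h := by rw [pow_succ]; group
              _ = h⁻¹ * (b * q ^ j) * h := by rw [ih]
              _ = (h⁻¹ * b * h) * (h⁻¹ * q ^ j * h) := by group
              _ = b * q * q ^ j := by rw [e4, mul_assoc h⁻¹, ← (hqh.pow_right j).eq, inv_mul_cancel_left]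
              _ = b * q ^ (j + 1) := by rw [pow_succ', mul_assoc]
        have h8 := hiter n
        rw [mul_assoc, mem_center_iff.1 hhn b, inv_mul_cancel_left] at h8
        have h9 : q ^ n = 1 := mul_left_cancel (a := b) (by rw [mul_one]; exact h8.symm)
        exact mem_bot.1 (mem_of_pow_mem T.cop.symm (mem_bot.2 h9)
          (mem_bot.2 (orderOf_dvd_iff_pow_eq_one.1 ((Subgroup.orderOf_dvd_natCard N hqN).trans D.stab.card_dvd))))
      have hbh : b ∈ C h := by
        rw [hq, inv_mul_eq_one] at hq1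
        refine mem_C.2 ?_
        calc b * h = h * (h⁻¹ * b * h) := by group
          _ = h * b := by rw [← hq1]
      have hkt : k ∈ C (t : G) := by
        refine mem_C_of_conj_eq ?_
        have h10 : h⁻¹ * b * h = b := by rw [mul_assoc, mem_C.1 hbh, inv_mul_cancel_left]
        rw [h10] at e2
        exact mul_left_cancel e2
      exact ⟨(b, k), ⟨⟨hbh, hb⟩, ⟨⟨hk, mem_C.2 hkh⟩, hkt⟩⟩, rfl⟩
    have hcount : Nat.card ↥(C (h * (t : G)) ⊓ NH) ≤ Nat.card ↥(C h ⊓ N) * Nat.card S := by
      refine le_trans (le_of_eq (Nat.card_coe_set_eq _)) ?_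
      refine le_trans (Set.ncard_le_ncard hC (Set.toFinite _)) ?_
      refine le_trans (Set.ncard_image_le (Set.toFinite _)) (le_of_eq ?_)
      rw [Set.ncard_prod, ← Nat.card_coe_set_eq, ← Nat.card_coe_set_eq]
      rfl
    have hker : Nat.card ↥(C h ⊓ N) = Nat.card μ.ker := by
      refine Nat.card_congr
        { toFun := fun w => ⟨⟨w, w.2.2⟩, ?_⟩
          invFun := fun w => ⟨(w : N), ?_, (w : N).2⟩
          left_inv := fun w => rfl
          right_inv := fun w => rfl }
      · rw [MonoidHom.mem_ker]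
        refine Subtype.ext ?_
        show (σ _ : G) * (w : G)⁻¹ = 1
        rw [show ((σ ⟨(w : G), w.2.2⟩ : N) : G) = h * (w : G) * h⁻¹ from MulAut.conjNormal_apply _ _,
          mul_inv_eq_one]
        exact conj_eq_of_mem_C (mem_C_symm.1 w.2.1)
      · have h1 : σ (w : N) = (w : N) := mul_inv_eq_one.1 w.2
        have h2 : h * ((w : N) : G) * h⁻¹ = (w : N) := by simpa [σ] using congrArg Subtype.val h1
        exact mem_C_symm.1 (mem_C_of_conj_eq h2)
    have hrel : Nat.card NH ≤ cs (h * (t : G)) * Nat.card ↥(C (h * (t : G)) ⊓ NH) := by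
      have h1 := relIndex_mul_relIndex ⊥ (C (h * (t : G)) ⊓ NH) NH bot_le inf_le_right
      rw [relIndex_bot_left, relIndex_bot_left, inf_relIndex_right] at h1
      rw [← h1, mul_comm]
      refine Nat.mul_le_mul_right _ ?_
      have h2 := relIndex_mul_index (inf_le_right : C (h * (t : G)) ⊓ NH ≤ NH)
      rw [inf_relIndex_right] at h2
      have h3 := Subgroup.index_inf_le (H := C (h * (t : G))) (K := NH)
      rw [← h2] at h3
      exact Nat.le_of_mul_le_mul_right h3 (Nat.pos_of_ne_zero index_ne_zero_of_finite)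
    have hNcard : Nat.card N = Nat.card μ.range * Nat.card μ.ker := by
      rw [Subgroup.card_eq_card_quotient_mul_card_subgroup μ.ker, Nat.card_congr (QuotientGroup.quotientKerEquivRange μ).toEquiv]
    have hHcard : Nat.card H = n * Nat.card Z := by
      have h1 := relIndex_mul_relIndex ⊥ Z H bot_le (center_le_C y)
      rw [relIndex_bot_left, relIndex_bot_left] at h1
      have h := relIndex_mul_index (center_le_C y)
      rw [D.center_index, show (C y).index = m from hy, mul_comm m n] at h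
      rw [← h1, Nat.eq_of_mul_eq_mul_right (lt_trans (lt_trans Nat.zero_lt_one T.one_lt) T.lt) h, mul_comm]
    refine T.eq_of_gt ?_
    by_contra hle
    push Not at hle
    have h4 : Nat.card NH ≤ n * (Nat.card μ.ker * Nat.card S) :=
      hrel.trans (Nat.mul_le_mul hle (hker ▸ hcount))
    rw [hcardNH, hNcard, hHcard] at h4
    have hk0 : 0 < n * Nat.card μ.ker := Nat.mul_pos (lt_trans Nat.zero_lt_one T.one_lt) Nat.card_pos
    have h5 : (Nat.card μ.range * Nat.card Z) * (n * Nat.card μ.ker) ≤ Nat.card S * (n * Nat.card μ.ker) := by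
      calc (Nat.card μ.range * Nat.card Z) * (n * Nat.card μ.ker)
          = Nat.card μ.range * Nat.card μ.ker * (n * Nat.card Z) := by ring
        _ ≤ n * (Nat.card μ.ker * Nat.card S) := h4
        _ = _ := by ring
    exact absurd (Nat.le_of_mul_le_mul_right h5 hk0) (not_le.2 hSM)
  have ht1 : (t : G) = 1 := by
    refine D.eq_one_of_mem_center t.2 (mem_of_pow_mem T.cop.symm ?_ ?_)
    · have h1 := D.pow_n hcsht (mem_C.2 rfl : h * (t : G) ∈ C (h * (t : G)))
      rw [Commute.mul_pow (mem_C.1 hth : Commute (t : G) h).symm] at h1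
      exact (Z.mul_mem_cancel_left hhn).1 h1
    · rw [orderOf_dvd_iff_pow_eq_one.1 ((Subgroup.orderOf_dvd_natCard N t.2).trans D.stab.card_dvd)]
      exact one_mem _
  rwa [ht1, mul_one] at hcsht

theorem Data.inf_centralizer_le_center {y : G} (hy : cs y = m) {g : G} (hg : g ∈ C x) (hg' : g ∉ center G)
    {a : G} (ha : a ∈ C y) (hag : a ∈ C g) : a ∈ center G := by
  by_contra h
  exact hg' (D.inf_le_center (D.cs_eq_m hy ha h) hg (mem_C_symm.1 hag))

theorem Data.cs_eq_n {g : G} (hg : g ∈ C x) (hg' : g ∉ center G) : cs g = n := by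
  obtain ⟨y, hy⟩ := D.exists_m
  have T := D.top
  have h1 : C g ⊓ C y = center G :=
    le_antisymm (fun a ha => D.inf_centralizer_le_center hy hg hg' ha.2 ha.1) (le_inf (center_le_C g) (center_le_C y))
  have h2 := Subgroup.index_inf_le (H := C g) (K := C y)
  rw [h1, D.center_index, show (C y).index = m from hy, mul_comm m n] at h2
  have h3 : n ≤ cs g := Nat.le_of_mul_le_mul_right h2 (lt_trans (lt_trans Nat.zero_lt_one T.one_lt) T.lt)
  refine (h3.eq_or_lt.resolve_right fun hlt => ?_).symm
  exact D.not_center (D.inf_le_center (T.eq_of_gt hlt) (mem_C.2 rfl) (mem_C_symm.1 hg))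

theorem Data.commute_n {g g2 : G} (hg : cs g = n) (hgm : g ^ m ∈ center G) (hg2 : cs g2 = n) : g ∈ C g2 := by
  obtain ⟨y, hy⟩ := D.exists_m
  have hgc : (cs g).Coprime m := by rw [hg]; exact D.top.cop.symm
  obtain ⟨M, hM, hgM⟩ := exists_stab D.top hy hgc
  obtain ⟨⟨t, ht, htZ⟩, -⟩ := pow_cs_mul_mem_center hM hgc hgM
  refine mem_of_pow_mem D.top.cop.symm ?_ (center_le_C g2 hgm)
  have h1 : t ∈ C g2 := mem_C.2 (hM.fix g2 (by rw [hg2]; exact D.top.cop.symm) t ht).symm
  have h2 := mul_mem (center_le_C g2 htZ) (inv_mem h1)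
  rwa [mul_inv_cancel_right, hg] at h2

theorem Data.mul_comm_x {a b : G} (ha : a ∈ C x) (hb : b ∈ C x) : a * b = b * a := by
  by_cases h1 : a ∈ center G
  · exact (mem_center_iff.1 h1 b).symm
  by_cases h2 : b ∈ center G
  · exact mem_center_iff.1 h2 a
  exact mem_C.1 (D.commute_n (D.cs_eq_n ha h1) (D.pow_m_mem ha) (D.cs_eq_n hb h2))

theorem Data.C_x_normal : (C x).Normal := ⟨fun g hg a => by
  by_cases h : g ∈ center G
  · rw [mem_center_iff.1 h a, mul_inv_cancel_right]; exact hg
  refine D.commute_n ((cs_conj a g).trans (D.cs_eq_n hg h)) ?_ D.csx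
  rw [conj_pow, mem_center_iff.1 (D.pow_m_mem hg) a, mul_inv_cancel_right]
  exact D.pow_m_mem hg⟩

theorem Data.commute_of_commutator_mem {y h k : G} (hy : cs y = m) (hh : h ∈ C y) (hk : k ∈ C x)
    (hz : k * h * k⁻¹ * h⁻¹ ∈ center G) : Commute k h := by
  set z := k * h * k⁻¹ * h⁻¹
  have h1 : z ^ n = 1 := by
    have e : (k * h * k⁻¹) ^ n = (z * h) ^ n := by simp only [z, inv_mul_cancel_right]
    rw [conj_pow, Commute.mul_pow (mem_center_iff.1 hz h).symm, mem_center_iff.1 (D.pow_n hy hh) k,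
      mul_inv_cancel_right] at e
    have h3 : z ^ n * h ^ n = 1 * h ^ n := by rw [one_mul]; exact e.symm
    exact mul_right_cancel h3
  have h2 : z ^ m = 1 := by
    have e : (h * k * h⁻¹) ^ m = (z⁻¹ * k) ^ m := by
      congr 1
      simp only [z]
      group
    rw [conj_pow, Commute.mul_pow (mem_center_iff.1 (inv_mem hz) k).symm, mem_center_iff.1 (D.pow_m_mem hk) h,
      mul_inv_cancel_right, inv_pow] at e
    have h3 : (z ^ m)⁻¹ * k ^ m = 1 * k ^ m := by rw [one_mul]; exact e.symm
    exact inv_eq_one.1 (mul_right_cancel h3)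
  have h4 : z = 1 := mem_bot.1 (mem_of_pow_mem D.top.cop.symm (mem_bot.2 h1) (mem_bot.2 h2))
  exact mul_inv_eq_iff_eq_mul.1 (mul_inv_eq_one.1 h4)

theorem Data.C_le {y : G} (hy : cs y = m) {h : G} (hh : h ∈ C y) (hh' : h ∉ center G) : C h ≤ C y := by
  intro c hc
  haveI := D.C_x_normal
  obtain ⟨k, hk, h', hh'', rfl⟩ := exists_mul (A := C x) (B := C y)
    (by rw [show (C x).index = n from D.csx, show (C y).index = m from hy]; exact D.top.cop.symm) c
  set h2 := h' * h * h'⁻¹
  have hh2 : h2 ∈ C y := mul_mem (mul_mem hh'' hh) (inv_mem hh'')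
  have hk2 : k * h2 * k⁻¹ = h := by
    have h1 := conj_eq_of_mem_C hc
    rw [← h1]
    simp only [h2]
    conv_rhs => rw [h1]
    calc k * (h' * h * h'⁻¹) * k⁻¹ = k * h' * h * (k * h')⁻¹ := by group
      _ = h := h1
  have hz : k * h2 * k⁻¹ * h2⁻¹ ∈ center G := by
    refine D.inf_le_center hy ?_ (by rw [hk2]; exact mul_mem hh (inv_mem hh2))
    rw [show k * h2 * k⁻¹ * h2⁻¹ = k * (h2 * k⁻¹ * h2⁻¹) by group]
    exact mul_mem hk ((inferInstance : (C x).Normal).conj_mem _ (inv_mem hk) h2)
  have hcomm := D.commute_of_commutator_mem hy hh2 hk hz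
  have hh2' : h2 ∉ center G := by
    intro h3
    apply hh'
    rw [← hk2, mem_center_iff.1 h3 k, mul_inv_cancel_right]
    exact h3
  have hkZ := D.inf_le_center (D.cs_eq_m hy hh2 hh2') hk (mem_C.2 hcomm)
  exact mul_mem (center_le_C y hkZ) hh''

theorem Data.mul_comm_y {y : G} (hy : cs y = m) {a b : G} (ha : a ∈ C y) (hb : b ∈ C y) : a * b = b * a := by
  by_cases h1 : a ∈ center G
  · exact (mem_center_iff.1 h1 b).symm
  have h2 : C a = C y := eq_of_le_of_index_eq (D.C_le hy ha h1) ((D.cs_eq_m hy ha h1).trans hy.symm)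
  exact (mem_C.1 (h2.symm ▸ hb : b ∈ C a)).symm

theorem Data.isFrobeniusComplement {y : G} (hy : cs y = m) :
    Cfsg.IsFrobeniusComplement ((C y).map (QuotientGroup.mk' (center G))) := by
  haveI := D.C_x_normal
  have hker : (QuotientGroup.mk' (center G)).ker ≤ C y := by rw [QuotientGroup.ker_mk']; exact center_le_C y
  have hmem : ∀ g, QuotientGroup.mk' (center G) g ∈ (C y).map (QuotientGroup.mk' (center G)) ↔ g ∈ C y := fun g => by
    rw [← mem_comap, comap_map_eq_self hker]
  refine ⟨fun h => ?_, fun h => ?_, fun g hg => ?_⟩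
  · rw [Subgroup.map_eq_bot_iff, QuotientGroup.ker_mk'] at h
    exact D.not_center_m hy (h (mem_C.2 rfl))
  · have h1 : (C y).index = 1 := by
      rw [← index_map_eq (C y) (QuotientGroup.mk'_surjective _) hker, h, index_top]
    rw [show (C y).index = m from hy] at h1
    have := D.top.lt
    have := D.top.one_lt
    omega
  · obtain ⟨g, rfl⟩ := QuotientGroup.mk'_surjective _ g
    rw [hmem] at hg
    rw [eq_bot_iff]
    rintro a ⟨ha, ha'⟩
    obtain ⟨a, rfl⟩ := QuotientGroup.mk'_surjective _ a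
    replace ha := (hmem a).1 ha
    replace ha' := CfsgLib.Frobenius.mem_conjSMul_iff.1 ha'
    rw [← map_inv, ← map_mul, ← map_mul, hmem] at ha'
    rw [mem_bot, QuotientGroup.mk'_apply, QuotientGroup.eq_one_iff]
    by_contra haZ
    obtain ⟨h', hh', k, hk, rfl⟩ := exists_mul (A := C y) (B := C x)
      (by rw [show (C x).index = n from D.csx, show (C y).index = m from hy]; exact D.top.cop) g
    have h1 : (h' * k)⁻¹ * a * (h' * k) = k⁻¹ * a * k := by
      rw [show (h' * k)⁻¹ * a * (h' * k) = k⁻¹ * (h'⁻¹ * a * h') * k by group, mul_assoc h'⁻¹,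
        D.mul_comm_y hy ha hh', inv_mul_cancel_left]
    rw [h1] at ha'
    have hz : k⁻¹ * a * k⁻¹⁻¹ * a⁻¹ ∈ center G := by
      rw [inv_inv]
      refine D.inf_le_center hy ?_ (mul_mem ha' (inv_mem ha))
      rw [show k⁻¹ * a * k * a⁻¹ = k⁻¹ * (a * k * a⁻¹) by group]
      exact mul_mem (inv_mem hk) ((inferInstance : (C x).Normal).conj_mem _ hk a)
    have hc := D.commute_of_commutator_mem hy ha (inv_mem hk) hz
    have hkZ := D.inf_le_center (D.cs_eq_m hy ha haZ) (inv_mem hk) (mem_C.2 hc.eq)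
    exact hg (mul_mem hh' (center_le_C y (inv_mem_iff.1 hkZ)))

theorem Data.frobeniusKernel_eq {y : G} (hy : cs y = m) :
    Cfsg.frobeniusKernel ((C y).map (QuotientGroup.mk' (center G))) =
      ((C x).map (QuotientGroup.mk' (center G)) : Set (G ⧸ center G)) := by
  haveI := D.C_x_normal
  have hker : ∀ w, (QuotientGroup.mk' (center G)).ker ≤ C w := fun w => by rw [QuotientGroup.ker_mk']; exact center_le_C w
  have hmem : ∀ w g, QuotientGroup.mk' (center G) g ∈ (C w).map (QuotientGroup.mk' (center G)) ↔ g ∈ C w := fun w g => by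
    rw [← mem_comap, comap_map_eq_self (hker w)]
  symm
  refine Set.eq_of_subset_of_ncard_le ?_ ?_
  · intro a ha
    obtain ⟨a, rfl⟩ := QuotientGroup.mk'_surjective _ a
    rw [SetLike.mem_coe, hmem] at ha
    by_cases haZ : a ∈ center G
    · exact Or.inl ((QuotientGroup.eq_one_iff a).2 haZ)
    refine Or.inr fun g hg => haZ ?_
    obtain ⟨g, rfl⟩ := QuotientGroup.mk'_surjective _ g
    rw [CfsgLib.Frobenius.mem_conjSMul_iff, ← map_inv, ← map_mul, ← map_mul, hmem] at hg
    have h1 := D.inf_le_center hy ((inferInstance : (C x).Normal).conj_mem' a ha g) hg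
    have h2 : a = g * (g⁻¹ * a * g) * g⁻¹ := by group
    rw [h2, mem_center_iff.1 h1 g, mul_inv_cancel_right]
    exact h1
  · rw [CfsgLib.Frobenius.ncard_kernel (D.isFrobeniusComplement hy), index_map_eq (C y) (QuotientGroup.mk'_surjective _) (hker y),
      show (C y).index = m from hy, ← Nat.card_coe_set_eq]
    have h1 := ((C x).map (QuotientGroup.mk' (center G))).card_mul_index
    rw [index_map_eq (C x) (QuotientGroup.mk'_surjective _) (hker x), show (C x).index = n from D.csx,
      ← Subgroup.index_eq_card, D.center_index] at h1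
    exact le_of_eq (Nat.eq_of_mul_eq_mul_right (lt_trans Nat.zero_lt_one D.top.one_lt) h1).symm

omit D

/-- The main theorem. -/
theorem two_largest (T : Top G m n) {x y : G} (hx : cs x = n) (hy : cs y = m) :
    IsMulCommutative (C x) ∧ IsMulCommutative (C y) ∧
    Cfsg.IsFrobeniusComplement ((C y).map (QuotientGroup.mk' (center G))) ∧
    Cfsg.frobeniusKernel ((C y).map (QuotientGroup.mk' (center G))) =
      ((C x).map (QuotientGroup.mk' (center G)) : Set (G ⧸ center G)) := by
  have hg : (cs x).Coprime m := by rw [hx]; exact T.cop.symm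
  obtain ⟨N, hN, hxN⟩ := exists_stab T hy hg
  obtain ⟨⟨t, ht, htZ⟩, hC⟩ := pow_cs_mul_mem_center hN hg hxN
  have hCt : C t = C x := by
    rw [← hC]
    ext g
    have hgz : Commute g (x ^ cs x * t) := mem_center_iff.1 htZ g
    rw [mem_C, mem_C]
    constructor
    · intro h
      have h1 := hgz.mul_right (show Commute g t from h).inv_right
      rw [mul_inv_cancel_right] at h1
      exact h1
    · intro h
      have h1 := (show Commute g (x ^ cs x) from h).inv_right.mul_right hgz
      rw [inv_mul_cancel_left] at h1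
      exact h1
  have D : Data G m n N t := ⟨T, hN, ht, by rw [← hx]; exact congrArg Subgroup.index hCt, y, hy⟩
  rw [← hCt]
  exact ⟨⟨⟨fun a b => Subtype.ext (D.mul_comm_x a.2 b.2)⟩⟩, ⟨⟨fun a b => Subtype.ext (D.mul_comm_y hy a.2 b.2)⟩⟩,
    D.isFrobeniusComplement hy, D.frobeniusKernel_eq hy⟩

end CfsgLib.TwoClassSizes
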