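import Cfsg.Agent.Lib.TwoClassSizes.Basic
import Cfsg.Agent.Lib.Factor.KegelWielandt
import Cfsg.Agent.Lib.Components.GenFitting
import Cfsg.Agent.Lib.Solvable.Core
import Cfsg.Agent.Lib.Solvable.CoprimeAction
import Cfsg.Agent.Lib.Transfer.PGroup

/-!
# The two largest class sizes: no element of size `n` commutes with one of size `m`
-/

set_option autoImplicit false
set_option linter.style.haveILetI false
set_option linter.unusedSectionVars false

namespace CfsgLib.TwoClassSizes

open CfsgLib.ClassSize CfsgLib.ClassSize.Nilp Subgroup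
open scoped commutatorElement

universe u

variable {G : Type u} [Group G] [Finite G] {m n : ℕ}

/-- An element `x` of class size `n` inside a translation group. -/
structure Data (G : Type u) [Group G] (m n : ℕ) (N : Subgroup G) (x : G) : Prop where
  top : Top G m n
  stab : Stab G m N
  mem : x ∈ N
  csx : cs x = n
  exists_m : ∃ y : G, cs y = m

theorem coprime_of_prime_not_dvd {r k : ℕ} (hr : r.Prime) (h : ¬ r ∣ k) (j : ℕ) : (r ^ j).Coprime k :=
  ((hr.coprime_iff_not_dvd).2 h).pow_left j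

theorem Top.cop_prime_pow (T : Top G m n) {q : ℕ} (hq : q.Prime) (hqn : q ∣ n) (j : ℕ) : (q ^ j).Coprime m :=
  coprime_of_prime_not_dvd hq (fun h => hq.ne_one (Nat.eq_one_of_dvd_coprimes T.cop h hqn)) j

variable {N : Subgroup G} {x : G} (D : Data G m n N x)
include D

theorem Data.pow_m : x ^ m = 1 :=
  orderOf_dvd_iff_pow_eq_one.1 ((Subgroup.orderOf_dvd_natCard N D.mem).trans D.stab.card_dvd)

theorem Data.C_le_of_coprime {a : G} (ha : a ∈ C x) {k : ℕ} (hk : k.Coprime m) (hak : a ^ k ∈ center G) :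
    C x ≤ C a := by
  have he : C (x * a) = C x ⊓ C a :=
    C_mul (mem_C.1 ha).symm hk.symm (by rw [D.pow_m]; exact one_mem _) hak
  have h1 : n ∣ cs (x * a) := by
    have h := index_dvd_of_le (inf_le_left : C x ⊓ C a ≤ C x)
    rw [← he, show (C x).index = n from D.csx] at h
    exact h
  have h2 := D.top.eq_of_dvd_n h1
  have h3 : C x ⊓ C a = C x :=
    eq_of_le_of_index_eq inf_le_left (by rw [← he]; exact h2.trans D.csx.symm)
  rw [← h3]
  exact inf_le_right

theorem Data.mem_center_inf {y : G} (hy : cs y = m) {a : G} (ha : a ∈ C x) {k : ℕ} (hk : k.Coprime m)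
    (hak : a ^ k ∈ center G) : a ∈ center G := by
  have h1 : cs a ∣ n := D.csx ▸ index_dvd_of_le (D.C_le_of_coprime ha hk hak)
  exact mem_center_of_pow D.top hy (D.top.cop.symm.coprime_dvd_left h1) hk hak

theorem Data.prime_part_mem_center {q : ℕ} (hq : q.Prime) (hqn : q ∣ n) {a : G} (ha : a ∈ C x) {j : ℕ}
    (hj : a ^ q ^ j = 1) : a ∈ center G := by
  obtain ⟨y, hy⟩ := D.exists_m
  exact D.mem_center_inf hy ha (D.top.cop_prime_pow hq hqn j) (by rw [hj]; exact one_mem _)

theorem Data.part_mem_C {y w : G} (hy : cs y = m) (hle : C y ≤ C w) {r : ℕ} (hr : r.Prime) (hrn : ¬ r ∣ n)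
    {j : ℕ} (hj : w ^ r ^ j = 1) : w ∈ C x := by
  haveI := Fact.mk hr
  obtain ⟨P, hP⟩ := (exists_sylow_le_centralizer_iff r x).2 (by rw [show (C x).index = n from D.csx]; exact hrn)
  obtain ⟨Q, hQ⟩ := (isPGroup_zpowers hj).exists_le_sylow
  obtain ⟨a, rfl⟩ := MulAction.exists_smul_eq G P Q
  obtain ⟨c, hc, b, hb, rfl⟩ := exists_mul (A := C y) (B := C x) (by
    rw [show (C y).index = m from hy, show (C x).index = n from D.csx]; exact D.top.cop) a
  have hw := hQ (mem_zpowers w)
  rw [Sylow.coe_subgroup_smul] at hw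
  obtain ⟨v, hv, hvw⟩ := hw
  have hvw' : c * b * v * (c * b)⁻¹ = w := hvw
  have hcw : c⁻¹ * w * c = w := by
    rw [mul_assoc, ← mem_C.1 (hle hc), inv_mul_cancel_left]
  rw [← hcw, ← hvw', show c⁻¹ * (c * b * v * (c * b)⁻¹) * c = b * v * b⁻¹ by group]
  exact mul_mem (mul_mem hb (hP hv)) (inv_mem hb)

/-- For `w` centralised by `C(y)` and commuting with `x`: `xw` has class size `n` or `m`. -/
theorem Data.dichotomy {y w : G} (hy : cs y = m) (hle : C y ≤ C w) (hw : w ∈ C x) :
    w ∈ center G ∨ (cs (x * w) = m ∧ cs w = m) := by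
  classical
  have T := D.top
  haveI := D.stab.normal
  have hinf : C y ⊓ C (x * w) = C y ⊓ C x := by
    ext g
    refine and_congr_right fun hg => ?_
    have h : g * w = w * g := mem_C.1 (hle hg)
    show g ∈ C (x * w) ↔ g ∈ C x
    rw [mem_C, mem_C, show g * (x * w) = g * x * w by group, mul_assoc x w g, ← h, ← mul_assoc]
    exact mul_left_inj w
  have hidx : (C y ⊓ C x).index = m * n := by
    rw [index_inf_eq (by rw [show (C y).index = m from hy, show (C x).index = n from D.csx]; exact T.cop),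
      show (C y).index = m from hy, show (C x).index = n from D.csx]
  have hge : n ≤ cs (x * w) := by
    have h := Subgroup.index_inf_le (H := C y) (K := C (x * w))
    rw [hinf, hidx, show (C y).index = m from hy] at h
    exact Nat.le_of_mul_le_mul_left h (lt_trans (lt_trans Nat.zero_lt_one T.one_lt) T.lt)
  rcases hge.eq_or_lt with heq | hlt
  · left
    have hconj : ∀ x', IsConj x x' → IsConj (x * w) (x' * w) := by
      intro x' hx'
      obtain ⟨c, hc, hcx⟩ := exists_conj_by (v := y) (by rw [D.csx, hy]; exact T.cop.symm) hx'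
      exact isConj_iff.2 ⟨c, by
        rw [← hcx, show c * (x * w) * c⁻¹ = (c * x * c⁻¹) * (c * w * c⁻¹) by group, conj_eq_of_mem_C (hle hc)]⟩
    let f : {z // IsConj x z} → {z // IsConj (x * w) z} := fun z => ⟨z * w, hconj z z.2⟩
    have hf : Function.Injective f := fun z1 z2 h => Subtype.ext (mul_right_cancel (congrArg Subtype.val h))
    have e1 : ∀ g : G, Nat.card {z // IsConj g z} = cs g := fun g => by
      rw [show cs g = _ from (ncard_setOf_isConj g).symm, ← Nat.card_coe_set_eq]; rfl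
    have hsur := (hf.bijective_of_nat_card_le (by rw [e1, e1, D.csx, ← heq])).2
    have hXN : ∀ z, IsConj x z → z ∈ N := fun z hz => by
      obtain ⟨c, rfl⟩ := isConj_iff.1 hz
      exact (inferInstance : N.Normal).conj_mem x D.mem c
    let Δ : Subgroup G :=
      { carrier := {δ | δ ∈ N ∧ ∀ z, IsConj x z → IsConj x (z * δ)}
        one_mem' := ⟨one_mem N, fun z h => by rwa [mul_one]⟩
        mul_mem' := fun {a b} ha hb => ⟨mul_mem ha.1 hb.1, fun z h => by rw [← mul_assoc]; exact hb.2 _ (ha.2 _ h)⟩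
        inv_mem' := fun {a} ha => ⟨inv_mem ha.1, fun z h => by
          let g : {u // IsConj x u} → {u // IsConj x u} := fun u => ⟨u * a, ha.2 _ u.2⟩
          have hg : Function.Injective g := fun u1 u2 h => Subtype.ext (mul_right_cancel (congrArg Subtype.val h))
          obtain ⟨u, hu⟩ := (Finite.injective_iff_surjective.1 hg) ⟨z, h⟩
          have hu' : (u : G) * a = z := congrArg Subtype.val hu
          rw [← hu', mul_inv_cancel_right]
          exact u.2⟩ }
    have hΔ : Nat.card Δ = 1 := by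
      set X : Set G := {z | IsConj x z}
      have hpre : (QuotientGroup.mk ⁻¹' (QuotientGroup.mk '' X : Set (G ⧸ Δ)) : Set G) = X := by
        refine Set.Subset.antisymm ?_ (Set.subset_preimage_image _ _)
        rintro z ⟨z', hz', hzz⟩
        have h := (QuotientGroup.eq.1 hzz : z'⁻¹ * z ∈ Δ).2 z' hz'
        rwa [mul_inv_cancel_left] at h
      have h := Nat.card_congr (QuotientGroup.preimageMkEquivSubgroupProdSet Δ (QuotientGroup.mk '' X : Set (G ⧸ Δ)))
      rw [hpre, Nat.card_prod, Nat.card_coe_set_eq, ncard_setOf_isConj] at h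
      refine Nat.eq_one_of_dvd_coprimes T.cop ((Subgroup.card_dvd_of_le (fun a ha => ha.1 : Δ ≤ N)).trans D.stab.card_dvd) ?_
      exact ⟨_, D.csx.symm.trans h⟩
    have key : ∀ g x', IsConj x x' → ∃ x'', IsConj x x'' ∧ g * x' * g⁻¹ * (g * w * g⁻¹) = x'' * w := by
      intro g x' hx'
      obtain ⟨z, hz⟩ := hsur ⟨g * (x' * w) * g⁻¹, (hconj x' hx').trans (isConj_iff.2 ⟨g, rfl⟩)⟩
      have hz' : (z : G) * w = g * (x' * w) * g⁻¹ := congrArg Subtype.val hz
      exact ⟨z, z.2, by rw [hz']; group⟩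
    refine mem_center_iff.2 fun g => ?_
    have hmem : g * w * g⁻¹ * w⁻¹ ∈ Δ := by
      refine ⟨?_, fun z hz => ?_⟩
      · obtain ⟨x'', h1, h2⟩ := key g x (IsConj.refl x)
        have e : g * w * g⁻¹ * w⁻¹ = (g * x * g⁻¹)⁻¹ * x'' := by
          rw [show g * w * g⁻¹ = (g * x * g⁻¹)⁻¹ * (x'' * w) by rw [← h2, inv_mul_cancel_left], mul_assoc,
            mul_inv_cancel_right]
        rw [e]
        exact mul_mem (inv_mem ((inferInstance : N.Normal).conj_mem x D.mem g)) (hXN _ h1)
      · obtain ⟨x'', h1, h2⟩ := key g (g⁻¹ * z * g) (hz.trans (isConj_iff.2 ⟨g⁻¹, by group⟩))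
        rw [show g * (g⁻¹ * z * g) * g⁻¹ = z by group] at h2
        rw [show z * (g * w * g⁻¹ * w⁻¹) = x'' by rw [← mul_assoc, h2, mul_inv_cancel_right]]
        exact h1
    rw [Subgroup.card_eq_one] at hΔ
    rw [hΔ, mem_bot, mul_inv_eq_one, mul_inv_eq_iff_eq_mul] at hmem
    exact hmem
  · right
    have hxw : cs (x * w) = m := T.eq_of_gt hlt
    refine ⟨hxw, ?_⟩
    have hinf2 : C x ⊓ C (x * w) = C x ⊓ C w := by
      ext g
      refine and_congr_right fun hg => ?_
      have h : g * x = x * g := mem_C.1 hg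
      show g ∈ C (x * w) ↔ g ∈ C w
      rw [mem_C, mem_C, show g * (x * w) = g * x * w by group, h, mul_assoc, mul_assoc]
      exact mul_right_inj x
    have h1 := Subgroup.index_inf_le (H := C x) (K := C w)
    rw [← hinf2, index_inf_eq (by rw [show (C x).index = n from D.csx, show (C (x * w)).index = m from hxw]; exact T.cop.symm),
      show (C x).index = n from D.csx, show (C (x * w)).index = m from hxw] at h1
    exact le_antisymm (T.le_top w) (Nat.le_of_mul_le_mul_left h1 (lt_trans Nat.zero_lt_one T.one_lt))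

omit D

omit [Finite G] in
theorem exists_pow_eq_of_primes {r k : ℕ} (hk0 : k ≠ 0) (hk : ∀ s : ℕ, s.Prime → s ∣ k → s = r) : ∃ i, k = r ^ i :=
  ⟨_, Nat.eq_prime_pow_of_unique_prime_dvd hk0 fun {s} hs hsk => hk s hs hsk⟩

/-- Nilpotency from a `r`-group central quotient. -/
theorem isNilpotent_of_pow_mem_center {M : Type*} [Group M] [Finite M] {r : ℕ} [Fact r.Prime]
    (h : ∀ g : M, ∃ i, g ^ r ^ i ∈ center M) : Group.IsNilpotent M := by
  refine Group.of_quotient_center_nilpotent (IsPGroup.isNilpotent (p := r) fun a => ?_)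
  induction a using QuotientGroup.induction_on with
  | H g =>
    obtain ⟨i, hi⟩ := h g
    exact ⟨i, by rw [← QuotientGroup.mk_pow]; exact (QuotientGroup.eq_one_iff _).2 hi⟩

include D

/-- The bad configuration: `x` and `d` commuting `r`-elements modulo the centre of class sizes `n`, `m`. -/
theorem Data.bad_core {r : ℕ} [hr : Fact r.Prime] (hrn : ¬ r ∣ n) {i : ℕ} (hxr : x ^ r ^ i ∈ center G)
    {d : G} {j : ℕ} (hdr : d ^ r ^ j ∈ center G) (hd : cs d = m) (hdx : d ∈ C x) {q : ℕ} [hq : Fact q.Prime] (hqn : q ∣ n) :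
    let U := Cfsg.pCore r G ⊔ center G
    let L := (Cfsg.fittingSubgroup (G ⧸ U.normalCore)).comap (QuotientGroup.mk' U.normalCore)
    (∃ Q : Sylow q G, (Q : Subgroup G) ≤ L) ∧ L ≤ C d := by
  classical
  intro U L
  have T := D.top
  set O := Cfsg.pCore r G with hO
  haveI hOn : O.Normal := CfsgLib.Solvable.pCore_normal (p := r) G
  haveI : U.Normal := sup_normal _ _
  have hUc : U.normalCore = U := normalCore_eq_self U
  set W := U.normalCore with hW
  let π := QuotientGroup.mk' W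
  have hπ : ∀ g, π g = 1 ↔ g ∈ U := fun g => by
    rw [show π g = (g : G ⧸ W) from rfl, QuotientGroup.eq_one_iff, hUc]
  have hCxd : (C x).index.Coprime (C d).index := by
    rw [show (C x).index = n from D.csx, show (C d).index = m from hd]; exact T.cop.symm
  -- elements of order prime to `r` in the two centralisers
  have hKs : ∀ s : ℕ, s.Prime → s ≠ r → ∀ g ∈ C x, (∃ k, g ^ s ^ k = 1) → g ∈ center G := by
    intro s hs hsr g hg ⟨k, hk⟩
    have hcop : (r ^ i).Coprime (s ^ k) := Nat.Coprime.pow _ _ ((Nat.coprime_primes hr.out hs).2 (Ne.symm hsr))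
    have hgZ : g ^ s ^ k ∈ center G := by rw [hk]; exact one_mem _
    have h1 : C (x * g) = C x ⊓ C g := C_mul (mem_C.1 hg).symm hcop hxr hgZ
    have h2 : cs (x * g) = n := T.eq_of_dvd_n (by
      have h := index_dvd_of_le (inf_le_left : C x ⊓ C g ≤ C x)
      rw [← h1, show (C x).index = n from D.csx] at h
      exact h)
    have hxg : C x ≤ C g := by
      have h3 : C x ⊓ C g = C x := eq_of_le_of_index_eq inf_le_left (by rw [← h1]; exact h2.trans D.csx.symm)
      rw [← h3]; exact inf_le_right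
    have hgd : g ∈ C d := mem_C_symm.1 (hxg hdx)
    have hcop' : (r ^ j).Coprime (s ^ k) := Nat.Coprime.pow _ _ ((Nat.coprime_primes hr.out hs).2 (Ne.symm hsr))
    have h4 : C (d * g) = C d ⊓ C g := C_mul (mem_C.1 hgd).symm hcop' hdr hgZ
    have h5 : cs (d * g) = m := T.eq_of_dvd_m (by
      have h := index_dvd_of_le (inf_le_left : C d ⊓ C g ≤ C d)
      rw [← h4, show (C d).index = m from hd] at h
      exact h)
    have hdg : C d ≤ C g := by
      have h3 : C d ⊓ C g = C d := eq_of_le_of_index_eq inf_le_left (by rw [← h4]; exact h5.trans hd.symm)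
      rw [← h3]; exact inf_le_right
    refine mem_center_iff.2 fun a => ?_
    obtain ⟨a1, ha1, a2, ha2, rfl⟩ := exists_mul hCxd a
    exact mem_C.1 (mul_mem (hxg ha1) (hdg ha2))
  have hHs : ∀ s : ℕ, s.Prime → s ≠ r → ∀ g ∈ C d, (∃ k, g ^ s ^ k = 1) → C d ≤ C g := by
    intro s hs hsr g hg ⟨k, hk⟩
    have hcop' : (r ^ j).Coprime (s ^ k) := Nat.Coprime.pow _ _ ((Nat.coprime_primes hr.out hs).2 (Ne.symm hsr))
    have h4 : C (d * g) = C d ⊓ C g := C_mul (mem_C.1 hg).symm hcop' hdr (by rw [hk]; exact one_mem _)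
    have h5 : cs (d * g) = m := T.eq_of_dvd_m (by
      have h := index_dvd_of_le (inf_le_left : C d ⊓ C g ≤ C d)
      rw [← h4, show (C d).index = m from hd] at h
      exact h)
    have h3 : C d ⊓ C g = C d := eq_of_le_of_index_eq inf_le_left (by rw [← h4]; exact h5.trans hd.symm)
    rw [← h3]; exact inf_le_right
  have hKr : ∀ g ∈ C x, ∃ k, g ^ r ^ k ∈ center G := by
    intro g hg
    obtain ⟨k, hk0, hk, -, hS⟩ := exists_pow_mem_center g (fun s => s = r) fun s hs hsr k hk =>
      hKs s hs hsr _ (pow_mem hg k) ⟨_, hk⟩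
    obtain ⟨e, rfl⟩ := exists_pow_eq_of_primes hk0 hS
    exact ⟨e, hk⟩
  have hnilK : Group.IsNilpotent (C x) := isNilpotent_of_pow_mem_center (r := r) fun g => by
    obtain ⟨k, hk⟩ := hKr g g.2
    exact ⟨k, mem_center_iff.2 fun a => Subtype.ext (mem_center_iff.1 hk a)⟩
  have hnilH : Group.IsNilpotent (C d) := isNilpotent_of_pow_mem_center (r := r) fun g => by
    obtain ⟨k, hk0, hk, -, hS⟩ := exists_pow_mem_center g (fun s => s = r) fun s hs hsr k hk => by
      refine mem_center_iff.2 fun a => Subtype.ext ?_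
      have h1 := hHs s hs hsr _ (g ^ k).2 ⟨_, by simpa using congrArg Subtype.val hk⟩ a.2
      exact mem_C.1 h1
    obtain ⟨e, rfl⟩ := exists_pow_eq_of_primes hk0 hS
    exact ⟨e, hk⟩
  haveI hsol : Group.IsSolvable G := CfsgLib.Factor.isSolvable_of_nilpotent_factor hnilK hnilH (exists_mul hCxd)
  have hother : ∀ s : ℕ, s.Prime → s ≠ r → ¬ s ∣ n → ∀ g : G, (∃ k, g ^ s ^ k = 1) → g ∈ center G := by
    intro s hs hsr hsn g ⟨k, hk⟩
    haveI := Fact.mk hs
    obtain ⟨P, hP⟩ := (exists_sylow_le_centralizer_iff s x).2 (by rw [show (C x).index = n from D.csx]; exact hsn)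
    obtain ⟨Q, hQ⟩ := (isPGroup_zpowers hk).exists_le_sylow
    obtain ⟨a, rfl⟩ := MulAction.exists_smul_eq G P Q
    have hg := hQ (mem_zpowers g)
    rw [Sylow.coe_subgroup_smul] at hg
    obtain ⟨v, hv, hvg⟩ := hg
    have hvg' : a * v * a⁻¹ = g := hvg
    obtain ⟨e, he⟩ := P.2 ⟨v, hv⟩
    have hvz := hKs s hs hsr v (hP hv) ⟨e, by simpa using congrArg Subtype.val he⟩
    rw [← hvg', mem_center_iff.1 hvz a, mul_inv_cancel_right]
    exact hvz
  have hUr : ∀ u ∈ U, ∃ k, u ^ r ^ k ∈ center G := by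
    intro u hu
    obtain ⟨a, ha, z, hz, rfl⟩ := mem_sup_of_normal_right.1 hu
    obtain ⟨k, hk⟩ := CfsgLib.Components.isPGroup_pCore (G := G) r ⟨a, ha⟩
    refine ⟨k, ?_⟩
    have hk' : a ^ r ^ k = 1 := by simpa using congrArg Subtype.val hk
    rw [Commute.mul_pow (mem_center_iff.1 hz a), hk', one_mul]
    exact pow_mem hz _
  have hFU : Cfsg.fittingSubgroup G ≤ U := by
    refine CfsgLib.Components.fitting_le_of_pCore_le fun s hs => ?_
    by_cases hsr : s = r
    · rw [hsr]; exact le_sup_left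
    · haveI := Fact.mk hs
      intro c hc
      refine mem_sup_right ?_
      obtain ⟨k, hk⟩ := CfsgLib.Components.isPGroup_pCore (G := G) s ⟨c, hc⟩
      have hk' : c ^ s ^ k = 1 := by simpa using congrArg Subtype.val hk
      by_cases hsn : s ∣ n
      · refine D.prime_part_mem_center hs hsn (mem_C.2 ?_) hk'
        haveI := D.stab.normal
        haveI := CfsgLib.Solvable.pCore_normal (p := s) G
        have h1 : c * x * c⁻¹ * x⁻¹ ∈ Cfsg.pCore s G ⊓ N := by
          refine ⟨?_, N.mul_mem ((inferInstance : N.Normal).conj_mem x D.mem c) (N.inv_mem D.mem)⟩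
          rw [show c * x * c⁻¹ * x⁻¹ = c * (x * c⁻¹ * x⁻¹) by group]
          exact mul_mem hc ((inferInstance : (Cfsg.pCore s G).Normal).conj_mem _ (inv_mem hc) x)
        obtain ⟨e, he⟩ := CfsgLib.Components.isPGroup_pCore (G := G) s ⟨_, h1.1⟩
        have h2 : orderOf (c * x * c⁻¹ * x⁻¹) ∣ s ^ e := orderOf_dvd_of_pow_eq_one (by simpa using congrArg Subtype.val he)
        have h3 := (Subgroup.orderOf_dvd_natCard N h1.2).trans D.stab.card_dvd
        have h4 := orderOf_eq_one_iff.1 (Nat.eq_one_of_dvd_coprimes (T.cop_prime_pow hs hsn e) h2 h3)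
        exact mul_inv_eq_iff_eq_mul.1 (mul_inv_eq_one.1 h4)
      · exact hother s hs hsr hsn c ⟨k, hk'⟩
  have hCU : Subgroup.centralizer (U : Set G) ≤ U :=
    (centralizer_le hFU).trans (CfsgLib.Components.centralizer_fitting_le_of_isSolvable.trans hFU)
  -- the abelian `n`-part of `C(d)`
  let B : Subgroup G :=
    { carrier := {h | h ∈ C d ∧ C d ≤ C h ∧ ∃ k, h ^ n ^ k = 1}
      one_mem' := ⟨one_mem _, fun a _ => mem_C.2 (by simp), 0, by simp⟩
      mul_mem' := fun {a b} ha hb => by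
        obtain ⟨h1, h2, k, hk⟩ := ha
        obtain ⟨h3, h4, l, hl⟩ := hb
        refine ⟨mul_mem h1 h3, fun g hg => mem_C.2 (Commute.mul_right (mem_C.1 (h2 hg) : Commute g a) (mem_C.1 (h4 hg))), k + l, ?_⟩
        rw [Commute.mul_pow (mem_C.1 (h4 h1) : Commute a b), pow_add, pow_mul, hk, one_pow, one_mul, mul_comm, pow_mul, hl, one_pow]
      inv_mem' := fun {a} ha => by
        obtain ⟨h1, h2, k, hk⟩ := ha
        exact ⟨inv_mem h1, fun g hg => mem_C.2 (Commute.inv_right (mem_C.1 (h2 hg) : Commute g a)), k, by rw [inv_pow, hk, inv_one]⟩ }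
  have hBd : B ≤ C d := fun h hh => hh.1
  have hBcomm : ∀ a ∈ B, ∀ b ∈ B, a * b = b * a := fun a ha b hb => mem_C.1 (hb.2.1 ha.1)
  have hBr : (Nat.card B).Coprime r := by
    rw [Nat.coprime_comm, hr.out.coprime_iff_not_dvd]
    intro hdvd
    obtain ⟨b, hb⟩ := exists_prime_orderOf_dvd_card' r hdvd
    obtain ⟨-, -, k, hk⟩ := b.2
    rw [← Subgroup.orderOf_coe] at hb
    exact hrn (hr.out.dvd_of_dvd_pow (hb ▸ orderOf_dvd_of_pow_eq_one hk))
  have hSylB : ∀ s : ℕ, ∀ [Fact s.Prime], s ∣ n → ∃ Q : Sylow s G, (Q : Subgroup G) ≤ B := by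
    intro s hs hsn
    have hsr : s ≠ r := fun h => hrn (h ▸ hsn)
    obtain ⟨Q, hQ⟩ := (exists_sylow_le_centralizer_iff s d).2 (by
      rw [show (C d).index = m from hd]
      exact fun h => hs.out.ne_one (Nat.eq_one_of_dvd_coprimes T.cop h hsn))
    refine ⟨Q, fun g hg => ?_⟩
    obtain ⟨k, hk⟩ := Q.2 ⟨g, hg⟩
    have hk' : g ^ s ^ k = 1 := by simpa using congrArg Subtype.val hk
    exact ⟨hQ hg, hHs s hs.out hsr g (hQ hg) ⟨k, hk'⟩, k,
      orderOf_dvd_iff_pow_eq_one.1 ((orderOf_dvd_of_pow_eq_one hk').trans (pow_dvd_pow_of_dvd hsn k))⟩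
  have hFB : Cfsg.fittingSubgroup (G ⧸ W) ≤ B.map π := by
    refine CfsgLib.Components.fitting_le_of_pCore_le fun s hs => ?_
    haveI := Fact.mk hs
    have hsyl : ∀ P : Sylow s G, Cfsg.pCore s (G ⧸ W) ≤ (P : Subgroup G).map π := fun P => by
      have hnd : ¬ s ∣ ((P : Subgroup G).map π).index := fun h =>
        P.not_dvd_index (h.trans ((P : Subgroup G).index_map_dvd (QuotientGroup.mk'_surjective W)))
      exact CfsgLib.Solvable.pCore_le_sylow ((P.2.map π).toSylow hnd)
    by_cases hsn : s ∣ n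
    · obtain ⟨Q, hQ⟩ := hSylB s hsn
      exact (hsyl Q).trans (map_mono hQ)
    by_cases hsr : s = r
    · haveI := CfsgLib.Solvable.pCore_normal (p := s) (G ⧸ W)
      set M := (Cfsg.pCore s (G ⧸ W)).comap π
      haveI : M.Normal := inferInstance
      have hMr : ∀ g : M, ∃ k, g ^ r ^ k ∈ center M := by
        intro g
        obtain ⟨k, hk⟩ := CfsgLib.Components.isPGroup_pCore (G := G ⧸ W) s ⟨π g, g.2⟩
        have hk' : π ((g : G) ^ s ^ k) = 1 := by rw [map_pow]; simpa using congrArg Subtype.val hk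
        obtain ⟨l, hl⟩ := hUr _ ((hπ _).1 hk')
        refine ⟨k + l, mem_center_iff.2 fun a => Subtype.ext ?_⟩
        have hz : (g : G) ^ r ^ (k + l) ∈ center G := by rw [pow_add, pow_mul, ← hsr]; rw [hsr] at hl ⊢; exact hl
        exact mem_center_iff.1 hz a
      have hMU : M ≤ U := (CfsgLib.Components.le_fitting_of_normal inferInstance (isNilpotent_of_pow_mem_center hMr)).trans hFU
      intro a ha
      obtain ⟨g, rfl⟩ := QuotientGroup.mk'_surjective W a
      rw [(hπ g).2 (hMU ha)]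
      exact one_mem _
    · obtain ⟨P⟩ := (inferInstance : Nonempty (Sylow s G))
      refine (hsyl P).trans ?_
      rintro _ ⟨g, hg, rfl⟩
      obtain ⟨k, hk⟩ := P.2 ⟨g, hg⟩
      rw [(hπ g).2 (mem_sup_right (hother s hs hsr hsn g ⟨k, by simpa using congrArg Subtype.val hk⟩))]
      exact one_mem _
  haveI : Group.IsSolvable (G ⧸ W) := Group.isSolvable_of_surjective (f := π) (QuotientGroup.mk'_surjective W)
  have hBF : B.map π ≤ Cfsg.fittingSubgroup (G ⧸ W) := by
    refine le_trans ?_ CfsgLib.Components.centralizer_fitting_le_of_isSolvable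
    rintro _ ⟨b, hb, rfl⟩
    rw [mem_centralizer_iff]
    intro v hv
    obtain ⟨b', hb', rfl⟩ := hFB hv
    rw [← map_mul, ← map_mul, hBcomm b' hb' b hb]
  have hL : L = U ⊔ B := by
    show (Cfsg.fittingSubgroup (G ⧸ W)).comap π = _
    rw [le_antisymm hFB hBF, comap_map_eq, QuotientGroup.ker_mk', hUc, sup_comm]
  -- `d` lies in `U`
  have hdU : d ∈ U := by
    have h1 : π d ∈ Cfsg.fittingSubgroup (G ⧸ W) := by
      refine CfsgLib.Components.centralizer_fitting_le_of_isSolvable (mem_centralizer_iff.2 fun v hv => ?_)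
      obtain ⟨b, hb, rfl⟩ := hFB hv
      rw [← map_mul, ← map_mul, mem_C.1 hb.1]
    obtain ⟨b, hb, hbd⟩ := hFB h1
    obtain ⟨-, -, k, hk⟩ := hb
    have h2 : π d ^ n ^ k = 1 := by rw [← hbd, ← map_pow, hk, map_one]
    have h3 : π d ^ r ^ j = 1 := by rw [← map_pow, hπ]; exact mem_sup_right hdr
    exact (hπ d).1 (mem_bot.1 (mem_of_pow_mem (coprime_of_prime_not_dvd hr.out (fun h => hrn (hr.out.dvd_of_dvd_pow h)) j)
      (mem_bot.2 h3) (mem_bot.2 h2)))
  -- conjugation into `B` by elements of `U`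
  have hLn : (U ⊔ B).Normal := hL ▸ (inferInstance : L.Normal)
  have hconjU : ∀ s : ℕ, ∀ [Fact s.Prime], s ∣ n → ∀ c : G, (∃ k, c ^ s ^ k = 1) →
      ∃ u ∈ U, ∃ γ ∈ B, c = u * γ * u⁻¹ := by
    intro s hs hsn c ⟨k, hk⟩
    obtain ⟨Q, hQ⟩ := hSylB s hsn
    obtain ⟨Q1, hQ1⟩ := (isPGroup_zpowers hk).exists_le_sylow
    haveI := hLn
    have hQL : (Q : Subgroup G) ≤ U ⊔ B := hQ.trans le_sup_right
    have hQ1L : (Q1 : Subgroup G) ≤ U ⊔ B := by
      obtain ⟨a, rfl⟩ := MulAction.exists_smul_eq G Q Q1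
      rw [Sylow.coe_subgroup_smul]
      rintro _ ⟨v, hv, rfl⟩
      exact hLn.conj_mem v (hQL hv) a
    obtain ⟨l, hl⟩ := MulAction.exists_smul_eq (↥(U ⊔ B)) (Q.subtype hQL) (Q1.subtype hQ1L)
    have hc : (⟨c, hQ1L (hQ1 (mem_zpowers c))⟩ : ↥(U ⊔ B)) ∈ ((l • Q.subtype hQL : Sylow s ↥(U ⊔ B)) : Subgroup ↥(U ⊔ B)) := by
      rw [hl]; exact hQ1 (mem_zpowers c)
    rw [Sylow.coe_subgroup_smul] at hc
    obtain ⟨v, hv, hvc⟩ := hc
    obtain ⟨u, hu, b, hb, hub⟩ := mem_sup_of_normal_left.1 l.2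
    refine ⟨u, hu, (v : G), hQ hv, ?_⟩
    have hvc' : (l : G) * (v : G) * (l : G)⁻¹ = c := congrArg Subtype.val hvc
    rw [← hvc', ← hub, show u * b * (v : G) * (u * b)⁻¹ = u * (b * (v : G) * b⁻¹) * u⁻¹ by group,
      hBcomm b hb v (hQ hv), mul_inv_cancel_right]
  have hfaith : ∀ γ ∈ B, (∀ a ∈ O, γ * a = a * γ) → γ ∈ center G := by
    intro γ hγ hcomm
    have hU : γ ∈ Subgroup.centralizer (U : Set G) := by
      rw [mem_centralizer_iff]
      intro v hv
      obtain ⟨a, ha, z, hz, rfl⟩ := mem_sup_of_normal_right.1 hv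
      exact (Commute.mul_right (hcomm a ha : Commute γ a) (mem_center_iff.1 hz γ)).symm.eq
    obtain ⟨k, hk⟩ := hUr γ (hCU hU)
    obtain ⟨-, -, l, hl⟩ := hγ
    exact mem_of_pow_mem (coprime_of_prime_not_dvd hr.out (fun h => hrn (hr.out.dvd_of_dvd_pow h)) k) hk
      (by rw [hl]; exact one_mem _)
  -- the action of `B` on `O / Φ(O)`
  set Φ := (frattini O).map O.subtype with hΦ
  haveI : Φ.Normal := ConjAct.normal_of_characteristic_of_normal
  let μ := QuotientGroup.mk' Φ
  haveI hVn : (O.map μ).Normal := hOn.map μ (QuotientGroup.mk'_surjective Φ)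
  have hOp : IsPGroup r O := CfsgLib.Components.isPGroup_pCore r
  haveI := hOp.isNilpotent
  letI : CommGroup (O.map μ) :=
    { (inferInstance : Group (O.map μ)) with
      mul_comm := by
        rintro ⟨_, a, ha, rfl⟩ ⟨_, b, hb, rfl⟩
        refine Subtype.ext ?_
        show μ a * μ b = μ b * μ a
        rw [← commutatorElement_eq_one_iff_mul_comm, ← map_commutatorElement]
        exact (QuotientGroup.eq_one_iff _).2 ⟨⁅(⟨a, ha⟩ : O), (⟨b, hb⟩ : O)⁆,
          CfsgLib.Transfer.commutator_le_frattini (commutator_mem_commutator (mem_top _) (mem_top _)), rfl⟩ }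
  letI : CommGroup B :=
    { (inferInstance : Group B) with mul_comm := fun a b => Subtype.ext (hBcomm a a.2 b b.2) }
  let φ : B →* MulAut (O.map μ) := (MulAut.conjNormal).comp (μ.comp B.subtype)
  have hVr : (Nat.card B).Coprime (Nat.card (O.map μ)) := by
    obtain ⟨k, hk⟩ := IsPGroup.iff_card.1 (hOp.map μ)
    rw [hk]
    exact hBr.pow_right k
  obtain ⟨v, hv⟩ := exists_regular φ hVr
  obtain ⟨u, hu, huv⟩ := v.2
  have hφ : ∀ (γ : B) (a : G) (ha : a ∈ O), φ γ ⟨μ a, a, ha, rfl⟩ = ⟨μ a, a, ha, rfl⟩ ↔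
      μ ((γ : G) * a * (γ : G)⁻¹) = μ a := fun γ a ha => by
    rw [Subtype.ext_iff]
    simp [φ, MulAut.conjNormal_apply]
  have hker : ∀ γ : B, (∀ w, φ γ w = w) → ∀ a ∈ O, (γ : G) * a = a * γ := by
    intro γ hγ a ha
    let A : Subgroup G := (φ.ker).map B.subtype
    have hA : A ≤ Subgroup.centralizer (O : Set G) := by
      refine CfsgLib.Solvable.le_centralizer_of_trivial_on_frattini_quotient ?_ ?_
      · obtain ⟨k, hk⟩ := IsPGroup.iff_card.1 (hOp.to_subgroup (frattini O))
        rw [hk]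
        exact (hBr.coprime_dvd_left (Subgroup.card_dvd_of_le (map_subtype_le φ.ker))).pow_right k
      · rintro _ ⟨b, hb, rfl⟩ a ha
        have h1 : φ b = 1 := hb
        have h2 := (hφ b a ha).1 (by rw [h1]; rfl)
        rw [← QuotientGroup.eq_one_iff, ← QuotientGroup.mk'_apply, map_mul, map_inv, mul_inv_eq_one]
        exact h2
    have hγA : (γ : G) ∈ A := ⟨γ, MulEquiv.ext fun w => hγ w, rfl⟩
    exact (mem_centralizer_iff.1 (hA hγA) a ha).symm
  -- every element lifting a regular vector is centralised by `O`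
  have hreg : ∀ u' ∈ O, (∀ γ : B, μ ((γ : G) * u' * (γ : G)⁻¹) = μ u' → ∀ w, φ γ w = w) → O ≤ C u' := by
    intro u' hu' hreg
    have hcent : ∀ s : ℕ, s.Prime → s ∣ n → ∀ c ∈ C u', (∃ k, c ^ s ^ k = 1) → c ∈ center G := by
      intro s hs hsn c hc hck
      haveI := Fact.mk hs
      obtain ⟨a, ha, γ, hγ, rfl⟩ := hconjU s hsn c hck
      obtain ⟨a0, ha0, z, hz, rfl⟩ := mem_sup_of_normal_right.1 ha
      have he : a0 * z * γ * (a0 * z)⁻¹ = a0 * γ * a0⁻¹ := by
        rw [mul_assoc a0 z γ, ← mem_center_iff.1 hz γ]; group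
      rw [he] at hc ⊢
      have h1 : μ (γ * u' * γ⁻¹) = μ u' := by
        have hcu : (a0 * γ * a0⁻¹) * u' * (a0 * γ * a0⁻¹)⁻¹ = u' := conj_eq_of_mem_C hc
        have hcom : Commute (μ a0) (μ u') := by
          have := congrArg Subtype.val (mul_comm (⟨μ a0, a0, ha0, rfl⟩ : O.map μ) ⟨μ u', u', hu', rfl⟩)
          exact this
        have h2 := congrArg μ hcu
        simp only [map_mul, map_inv, mul_inv_rev, inv_inv] at h2 ⊢
        have e1 : (μ a0)⁻¹ * μ u' * μ a0 = μ u' := by rw [mul_assoc, ← hcom.eq, inv_mul_cancel_left]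
        calc μ γ * μ u' * (μ γ)⁻¹ = μ γ * ((μ a0)⁻¹ * μ u' * μ a0) * (μ γ)⁻¹ := by rw [e1]
          _ = (μ a0)⁻¹ * (μ a0 * μ γ * (μ a0)⁻¹ * μ u' * (μ a0 * ((μ γ)⁻¹ * (μ a0)⁻¹))) * μ a0 := by group
          _ = μ u' := by rw [h2, e1]
      have hγZ := hfaith γ hγ (hker ⟨γ, hγ⟩ (hreg ⟨γ, hγ⟩ h1))
      rw [mem_center_iff.1 hγZ a0, mul_inv_cancel_right]
      exact hγZ
    have hdvd : n ∣ cs u' := by
      refine (Nat.dvd_iff_prime_pow_dvd_dvd _ _).2 fun s k hs hk => ?_
      by_cases hk0 : k = 0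
      · simp [hk0]
      haveI := Fact.mk hs
      have hsn : s ∣ n := (dvd_pow_self s hk0).trans hk
      obtain ⟨S⟩ := (inferInstance : Nonempty (Sylow s (C u')))
      have hSZ : (S : Subgroup (C u')).map (C u').subtype ≤ center G := by
        rintro _ ⟨c, hc, rfl⟩
        obtain ⟨e, he⟩ := S.2 ⟨c, hc⟩
        exact hcent s hs hsn c c.2 ⟨e, by simpa using congrArg (fun t : (S : Subgroup (C u')) => ((t : C u') : G)) he⟩
      have hcard := Subgroup.card_dvd_of_le hSZ
      rw [card_map_of_injective (C u').subtype_injective, S.card_eq_multiplicity,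
        hs.pow_dvd_iff_le_factorization Nat.card_pos.ne'] at hcard
      have h1 : n ∣ (center G).index := D.csx ▸ index_dvd_of_le (center_le_C x)
      have h2 := (hs.pow_dvd_iff_le_factorization index_ne_zero_of_finite).1 (hk.trans h1)
      rw [hs.pow_dvd_iff_le_factorization (cs_ne_zero u')]
      have e1 : (Nat.card (C u')).factorization s + (cs u').factorization s = (Nat.card G).factorization s := by
        rw [← (C u').card_mul_index, Nat.factorization_mul Nat.card_pos.ne' index_ne_zero_of_finite, Finsupp.add_apply]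
      have e2 : (Nat.card (center G)).factorization s + (center G).index.factorization s = (Nat.card G).factorization s := by
        rw [← (center G).card_mul_index, Nat.factorization_mul Nat.card_pos.ne' index_ne_zero_of_finite, Finsupp.add_apply]
      omega
    have hn : cs u' = n := T.eq_of_dvd_n hdvd
    obtain ⟨P, hP⟩ := (exists_sylow_le_centralizer_iff r u').2 (by rw [show (C u').index = n from hn]; exact hrn)
    exact (CfsgLib.Solvable.pCore_le_sylow P).trans hP
  have hu1 : O ≤ C u := hreg u hu fun γ h => hv γ (by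
    have hv' : v = ⟨μ u, u, hu, rfl⟩ := Subtype.ext huv.symm
    rw [hv']
    exact (hφ γ u hu).2 h)
  obtain ⟨d0, hd0, z, hz, hdz⟩ := mem_sup_of_normal_right.1 hdU
  have hd0B : ∀ γ : B, (γ : G) * d0 * (γ : G)⁻¹ = d0 := by
    intro γ
    have h1 : (γ : G) * d * (γ : G)⁻¹ = d := conj_eq_of_mem_C (hBd γ.2)
    rw [← hdz, show (γ : G) * (d0 * z) * (γ : G)⁻¹ = (γ : G) * d0 * (z * (γ : G)⁻¹) by group,
      ← mem_center_iff.1 hz (γ : G)⁻¹, ← mul_assoc] at h1
    exact mul_right_cancel h1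
  have hu2 : O ≤ C (u * d0) := hreg _ (mul_mem hu hd0) fun γ h => hv γ (by
    have hv' : v = ⟨μ u, u, hu, rfl⟩ := Subtype.ext huv.symm
    rw [hv']
    refine (hφ γ u hu).2 ?_
    rw [show (γ : G) * (u * d0) * (γ : G)⁻¹ = ((γ : G) * u * (γ : G)⁻¹) * ((γ : G) * d0 * (γ : G)⁻¹) by group,
      hd0B γ, map_mul, map_mul μ u d0] at h
    exact mul_right_cancel h)
  refine ⟨?_, ?_⟩
  · obtain ⟨Q, hQ⟩ := hSylB q hqn
    exact ⟨Q, hQ.trans (hL ▸ le_sup_right)⟩
  · rw [hL]
    refine sup_le (sup_le (fun a ha => ?_) (center_le_C d)) hBd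
    have h0 : Commute a d0 := by
      have h1 : Commute a u := mem_C.1 (hu1 ha)
      have h2 : Commute a (u * d0) := mem_C.1 (hu2 ha)
      have h3 := h1.inv_right.mul_right h2
      rwa [inv_mul_cancel_left] at h3
    rw [mem_C, ← hdz]
    exact (h0.mul_right (mem_center_iff.1 hz a)).eq

/-- No element of class size `m`, an `r`-element modulo the centre with `r ∤ n`, commutes with `x`. -/
theorem Data.not_commute {r : ℕ} (hr : r.Prime) (hrn : ¬ r ∣ n) {d : G} {j : ℕ} (hdr : d ^ r ^ j ∈ center G)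
    (hd : cs d = m) : d ∉ C x := by
  intro hdx
  haveI := Fact.mk hr
  have T := D.top
  obtain ⟨k, hk0, hk, -, hS⟩ := exists_pow_mem_center x (fun s => s = r) fun s hs hsr k hk => by
    have hxk : C x ≤ C (x ^ k) := fun g hg => mem_C.2 (Commute.pow_right (mem_C.1 hg : Commute g x) k)
    have h1 : C (x ^ k * d) = C (x ^ k) ⊓ C d :=
      C_mul (Commute.pow_left (Commute.symm (mem_C.1 hdx : Commute d x)) k)
        (Nat.Coprime.pow _ _ ((Nat.coprime_primes hs hr).2 hsr)) (by rw [hk]; exact one_mem _) hdr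
    have h2 : cs (x ^ k) ∣ n := D.csx ▸ index_dvd_of_le hxk
    have h3 : (C (x ^ k) ⊓ C d).index = cs (x ^ k) * m := by
      rw [index_inf_eq (by rw [show (C d).index = m from hd]; exact T.cop.symm.coprime_dvd_left h2),
        show (C d).index = m from hd]
    rw [← h1] at h3
    have h4 := T.le_top (x ^ k * d)
    rw [show cs (x ^ k * d) = _ from h3] at h4
    have h5 : cs (x ^ k) ≤ 1 := by
      have := lt_trans (lt_trans Nat.zero_lt_one T.one_lt) T.lt
      nlinarith
    exact (cs_eq_one_iff _).1 (le_antisymm h5 (Nat.pos_of_ne_zero (cs_ne_zero _)))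
  obtain ⟨i, rfl⟩ := exists_pow_eq_of_primes hk0 hS
  obtain ⟨hxd, -⟩ := (D.dichotomy hd le_rfl hdx).resolve_left fun h => by
    rw [← cs_eq_one_iff, hd] at h
    have := T.lt
    have := T.one_lt
    omega
  obtain ⟨q, hq, hqn⟩ := Nat.exists_prime_and_dvd (show n ≠ 1 from T.one_lt.ne')
  haveI := Fact.mk hq
  have hxdr : (x * d) ^ r ^ (i + j) ∈ center G := by
    rw [Commute.mul_pow (Commute.symm (mem_C.1 hdx : Commute d x))]
    refine mul_mem ?_ ?_
    · rw [pow_add, pow_mul]; exact pow_mem hk _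
    · rw [add_comm, pow_add, pow_mul]; exact pow_mem hdr _
  obtain ⟨⟨Q, hQ⟩, hL1⟩ := D.bad_core hrn hk hdr hd hdx hqn
  obtain ⟨-, hL2⟩ := D.bad_core hrn hk hxdr hxd (mul_mem (mem_C.2 rfl) hdx) hqn
  have hQx : (Q : Subgroup G) ≤ C x := fun g hg => mem_C.2 (by
    have h1 : Commute g d := mem_C.1 (hL1 (hQ hg))
    have h2 : Commute g (x * d) := mem_C.1 (hL2 (hQ hg))
    have h3 := h2.mul_right h1.inv_right
    rw [mul_inv_cancel_right] at h3
    exact h3.eq)
  have hdvd := index_dvd_of_le hQx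
  rw [show (C x).index = n from D.csx] at hdvd
  exact Q.not_dvd_index (hqn.trans hdvd)

end CfsgLib.TwoClassSizes
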